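import Groth.Agent.ModDesc.Sub
import Groth.Agent.Approx.ProperSub
import Groth.Agent.Approx.FP
import Groth.Prelude.Def_CurvBase

/-!
# Finitely presented approximations of a morphism of finite type of modulus pairs
-/

set_option autoImplicit false
set_option linter.style.haveILetI false
set_option backward.isDefEq.respectTransparency false
set_option backward.isDefEq.respectTransparency.types false

universe u

open CategoryTheory CategoryTheory.Limits AlgebraicGeometry TopologicalSpace Opposite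
open Groth.Agent.MorLib

namespace Groth.Agent.ModDesc

/-- A locally principal ideal sheaf is of finite type. -/
theorem isFG_of_isLocPrincipal {X : Scheme.{u}} {A : X.IdealSheafData} (h : ModPairLib.IsLocPrincipal A) :
    IdealFG.IsFG A := fun U => IdealFG.fg_of_cover _ U fun x _ => by
  obtain ⟨V, hx, a, ha⟩ := h x
  exact ⟨V, hx, ha.symm ▸ Submodule.fg_span_singleton a⟩

variable {X X' Y : Scheme.{u}}

theorem comap_subschemeι_self (K : X.IdealSheafData) : K.comap K.subschemeι = ⊥ := by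
  refine le_bot_iff.1 ((Scheme.IdealSheafData.le_map_iff_comap_le).1 ?_)
  rw [Scheme.IdealSheafData.map_bot, Scheme.IdealSheafData.ker_subschemeι]

/-- A finite type ideal sheaf on a closed subscheme is the restriction of one of the ambient scheme. -/
theorem exists_fg_extension [CompactSpace X'] [QuasiSeparatedSpace X'] (j : X ⟶ X') [IsClosedImmersion j]
    {IX : X.IdealSheafData} (hIX : IdealFG.IsFG IX) :
    ∃ A : X'.IdealSheafData, IdealFG.IsFG A ∧ A.comap j = IX := by
  classical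
  obtain ⟨s, -, hs⟩ := exists_finset_cover (Y := X') (fun _ => True) fun x => by
    obtain ⟨W, hW, hxW, -⟩ := exists_isAffineOpen_mem_and_subset (x := x) (U := ⊤) trivial
    exact ⟨⟨W, hW⟩, hxW, trivial⟩
  choose gs hgs using fun W : X'.affineOpens => hIX ⟨j ⁻¹ᵁ W.1, W.2.preimage j⟩
  have hlift : ∀ p : (Σ W : X'.affineOpens, Γ(X, j ⁻¹ᵁ W.1)),
      ∃ a : Γ(X', p.1.1), (j.app p.1.1).hom a = p.2 := fun p => j.app_surjective p.1.1 p.1.2 p.2
  choose a ha using hlift
  let t : Finset (Σ W : X'.affineOpens, Γ(X', W.1)) := (s.sigma gs).image fun p => ⟨p.1, a p⟩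
  have ht : ∀ q ∈ t, q.2 ∈ (IX.map j).ideal q.1 := fun q hq => by
    obtain ⟨p, hp, rfl⟩ := Finset.mem_image.1 hq
    rw [Scheme.IdealSheafData.ideal_map_of_isAffineHom, Ideal.mem_comap, ha p]
    exact (hgs p.1).le (Ideal.subset_span (Finset.mem_sigma.1 hp).2)
  obtain ⟨K, hK⟩ := exists_sub_forall_mem (IX.map j) t ht
  refine ⟨K.1, K.2.2, le_antisymm (Scheme.IdealSheafData.le_map_iff_comap_le.1 K.2.1) ?_⟩
  refine Scheme.IdealSheafData.le_of_iSup_eq_top
    (fun W : s => (⟨j ⁻¹ᵁ W.1.1, W.1.2.preimage j⟩ : X.affineOpens)) (j.iSup_preimage_eq_top hs) fun W => ?_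
  rw [ModPairLib.ideal_comap K.1 j W.1 ⟨_, W.1.2.preimage j⟩ le_rfl, ← hgs W.1, Ideal.span_le]
  intro x hx
  have hm := Ideal.mem_map_of_mem (j.app W.1.1).hom
    (hK _ (Finset.mem_image.2 ⟨⟨W.1, x⟩, Finset.mem_sigma.2 ⟨W.2, hx⟩, rfl⟩))
  rw [ha ⟨W.1, x⟩] at hm
  rw [← Scheme.Hom.app_eq_appLE]
  exact hm

/-- Where the closed subscheme maps isomorphically to the base, so do its small neighbourhoods. -/
theorem exists_sub_isIso [CompactSpace X'] [QuasiSeparatedSpace X'] (j : X ⟶ X') [IsClosedImmersion j]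
    (f' : X' ⟶ Y) [LocallyOfFiniteType f'] [QuasiCompact f'] (U : Y.Opens) [CompactSpace (U : Scheme.{u})]
    (h : IsIso ((j ≫ f') ∣_ U)) :
    ∃ K₀ : IdealFG.Sub j.ker, ∀ K : IdealFG.Sub j.ker, K₀ ≤ K → IsIso ((K.1.subschemeι ≫ f') ∣_ U) := by
  let O := f' ⁻¹ᵁ U
  haveI : QuasiCompact (f' ∣_ U) := IsZariskiLocalAtTarget.restrict (P := @QuasiCompact) ‹_› U
  haveI : CompactSpace (O : Scheme.{u}) := QuasiCompact.compactSpace_of_compactSpace (f' ∣_ U)
  rw [morphismRestrict_comp] at h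
  haveI : LocallyOfFinitePresentation (j ∣_ O) := by
    haveI : LocallyOfFinitePresentation ((j ∣_ O) ≫ (f' ∣_ U)) := by
      haveI := h
      infer_instance
    haveI : LocallyOfFiniteType (f' ∣_ U) := IsZariskiLocalAtTarget.restrict (P := @LocallyOfFiniteType) ‹_› U
    exact S12442.locallyOfFinitePresentation_of_comp (j ∣_ O) (f' ∣_ U)
  obtain ⟨K₀, hK₀⟩ := exists_sub_eq_on j O
  refine ⟨K₀, fun K hK => ?_⟩
  haveI : IsClosedImmersion (j ∣_ O) := IsZariskiLocalAtTarget.restrict (P := @IsClosedImmersion) ‹_› O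
  haveI : IsClosedImmersion (K.1.subschemeι ∣_ O) :=
    IsZariskiLocalAtTarget.restrict (P := @IsClosedImmersion) inferInstance O
  let g := IsClosedImmersion.lift (K.1.subschemeι ∣_ O) (j ∣_ O) (hK₀ K hK).le
  let g' := IsClosedImmersion.lift (j ∣_ O) (K.1.subschemeι ∣_ O) (hK₀ K hK).ge
  have hg : g ≫ (K.1.subschemeι ∣_ O) = j ∣_ O := IsClosedImmersion.lift_fac _ _ _
  have hg' : g' ≫ (j ∣_ O) = K.1.subschemeι ∣_ O := IsClosedImmersion.lift_fac _ _ _
  haveI : IsIso g := ⟨⟨g', by rw [← cancel_mono (j ∣_ O), Category.assoc, hg', hg, Category.id_comp],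
    by rw [← cancel_mono (K.1.subschemeι ∣_ O), Category.assoc, hg, hg', Category.id_comp]⟩⟩
  rw [morphismRestrict_comp]
  have e : (K.1.subschemeι ∣_ O) ≫ (f' ∣_ U) = inv g ≫ (j ∣_ O) ≫ (f' ∣_ U) := by
    rw [← hg, Category.assoc, IsIso.inv_hom_id_assoc]
  haveI := h
  show IsIso ((K.1.subschemeι ∣_ O) ≫ (f' ∣_ U))
  rw [e]
  infer_instance

/-- A morphism of finite type of modulus pairs is a limit of finitely presented ones along closed immersions. -/
theorem exists_approx [CompactSpace X] [QuasiSeparatedSpace X] [CompactSpace Y] [QuasiSeparatedSpace Y]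
    (IX : X.IdealSheafData) (IY : Y.IdealSheafData) (hX : BlowUp.IsEffCartierIdeal IX)
    (hY : BlowUp.IsEffCartierIdeal IY) (f : X ⟶ Y) (hf : ModPair.IsAmbient IX IY f) [LocallyOfFiniteType f] :
    ∃ (I : Type u) (_ : SmallCategory I) (_ : IsCofiltered I) (D : I ⥤ Over Y) (c : Cone D)
      (_ : IsLimit c) (e : c.pt ≅ Over.mk f) (J : ∀ i, (D.obj i).left.IdealSheafData),
      (∀ i, LocallyOfFinitePresentation (D.obj i).hom ∧ QuasiCompact (D.obj i).hom ∧
          QuasiSeparated (D.obj i).hom) ∧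
        (∀ (i j : I) (t : i ⟶ j), IsClosedImmersion (D.map t).left) ∧
        (∀ i, IsClosedImmersion (c.π.app i).left) ∧
        (∀ i, Curv2.IsLocPrincipal (J i)) ∧
        (∀ i, IX = (J i).comap (e.inv.left ≫ (c.π.app i).left)) ∧
        (∀ (i j : I) (t : i ⟶ j), J i = (J j).comap (D.map t).left) ∧
        (∀ i, ModPair.IsAmbient (J i) IY (D.obj i).hom) ∧
        (ModPair.IsMinimal IX IY f → ∀ i, ModPair.IsMinimal (J i) IY (D.obj i).hom) ∧
        (IsProper f → ∀ i, IsProper (D.obj i).hom) ∧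
        (ModPair.IsMinimal IX IY f → IsIso (f ∣_ ModPair.interior IY) →
          ∀ i, IsIso ((D.obj i).hom ∣_ ModPair.interior IY)) := by
  classical
  obtain ⟨X', f', j, h1, h2, h3, hc', hqs', hj, hjf, hsep⟩ := Approx.exists_closedImmersion_fp f
  have hXp := ModPairLib.isLocPrincipal_of_isEffCartier hX
  have hYp := ModPairLib.isLocPrincipal_of_isEffCartier hY
  let L := IY.comap f'
  have hLfg : IdealFG.IsFG L := isFG_of_isLocPrincipal (hYp.comap f')
  have hLj : L.comap j = IY.comap f := by rw [← Scheme.IdealSheafData.comap_comp, hjf]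
  obtain ⟨A, hAfg, hAj, hAL⟩ : ∃ A : X'.IdealSheafData, IdealFG.IsFG A ∧ A.comap j = IX ∧
      (ModPair.IsMinimal IX IY f → A = L) := by
    by_cases hmin : ModPair.IsMinimal IX IY f
    · exact ⟨L, hLfg, hLj.trans hmin.symm, fun _ => rfl⟩
    · obtain ⟨A, hA, hAj⟩ := exists_fg_extension j (isFG_of_isLocPrincipal hXp)
      exact ⟨A, hA, hAj, fun h => absurd h hmin⟩
  obtain ⟨K₁, hK₁⟩ := exists_sub_locPrincipal j hAfg (hAj.symm ▸ hXp)
  obtain ⟨K₂, hK₂⟩ := exists_sub_le_sup (L := L) (P := j.ker) hAfg (by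
    rw [← H26.InterSymm.map_comap_eq, Scheme.IdealSheafData.le_map_iff_comap_le, hAj, hLj]
    exact hf)
  obtain ⟨K₃, hK₃⟩ : ∃ K₃ : IdealFG.Sub j.ker, IsProper f → ∀ K : IdealFG.Sub j.ker, K₃ ≤ K →
      IsProper (K.1.subschemeι ≫ f') := by
    by_cases hp : IsProper f
    · haveI := hsep inferInstance
      haveI : IsProper (j ≫ f') := by rw [hjf]; exact hp
      obtain ⟨K₃, hK₃⟩ := Approx.exists_sub_isProper j f'
      exact ⟨K₃, fun _ K hK => hK₃ K hK⟩
    · exact ⟨K₁, fun h => absurd h hp⟩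
  obtain ⟨K₄, hK₄⟩ : ∃ K₄ : IdealFG.Sub j.ker, IsIso (f ∣_ ModPair.interior IY) →
      ∀ K : IdealFG.Sub j.ker, K₄ ≤ K → IsIso ((K.1.subschemeι ≫ f') ∣_ ModPair.interior IY) := by
    by_cases hi : IsIso (f ∣_ ModPair.interior IY)
    · haveI := ModPairLib.isAffineHom_interior hYp
      haveI : CompactSpace (ModPair.interior IY : Scheme.{u}) :=
        QuasiCompact.compactSpace_of_compactSpace (ModPair.interior IY).ι
      obtain ⟨K₄, hK₄⟩ := exists_sub_isIso j f' (ModPair.interior IY) (by rw [hjf]; exact hi)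
      exact ⟨K₄, fun _ K hK => hK₄ K hK⟩
    · exact ⟨K₁, fun h => absurd h hi⟩
  obtain ⟨K₁₂, h112, h212⟩ := exists_ge_ge K₁ K₂
  obtain ⟨K₃₄, h334, h434⟩ := exists_ge_ge K₃ K₄
  obtain ⟨K₀, h012, h034⟩ := exists_ge_ge K₁₂ K₃₄
  let F := (Approx.tailVal_mono K₀).functor.op
  haveI : (Approx.tailVal_mono K₀).functor.Final := Approx.tail_final K₀
  let hlim : IsLimit ((IdealFG.subCone f' j.ker).whisker F) :=
    (Functor.Initial.isLimitWhiskerEquiv F _).symm (IdealFG.isLimitSubCone f' j.ker)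
  haveI hto : IsIso j.toImage := inferInstance
  let e : ((IdealFG.subCone f' j.ker).whisker F).pt ≅ Over.mk f := Over.isoMk (asIso j.toImage).symm (by
    show inv j.toImage ≫ f = j.ker.subschemeι ≫ f'
    rw [IsIso.inv_comp_eq]
    exact hjf.symm.trans ((congrArg (· ≫ f') j.toImage_imageι.symm).trans (Category.assoc _ _ _)))
  let J : ∀ i : (Approx.Tail K₀)ᵒᵖ, ((F ⋙ IdealFG.subDiagram f' j.ker).obj i).left.IdealSheafData :=
    fun i => A.comap i.unop.1.1.subschemeι
  have hge : ∀ i : (Approx.Tail K₀)ᵒᵖ, K₁ ≤ i.unop.1 ∧ K₂ ≤ i.unop.1 ∧ K₃ ≤ i.unop.1 ∧ K₄ ≤ i.unop.1 :=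
    fun i => ⟨(h112.trans h012).trans i.unop.2, (h212.trans h012).trans i.unop.2,
      (h334.trans h034).trans i.unop.2, (h434.trans h034).trans i.unop.2⟩
  refine ⟨(Approx.Tail K₀)ᵒᵖ, inferInstance, inferInstance, F ⋙ IdealFG.subDiagram f' j.ker,
    (IdealFG.subCone f' j.ker).whisker F, hlim, e, J,
    fun i => ?_, fun a b t => IdealFG.isClosedImmersion_map f' j.ker (F.map t), fun i => ?_, fun i => ?_,
    fun i => ?_, fun a b t => ?_, fun i => ?_, fun hmin i => ?_, fun hp i => ?_, fun _ hi i => ?_⟩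
  · haveI := IdealFG.lfp_subschemeι i.unop.1.2.2
    show LocallyOfFinitePresentation (i.unop.1.1.subschemeι ≫ f') ∧ QuasiCompact (i.unop.1.1.subschemeι ≫ f') ∧
      QuasiSeparated (i.unop.1.1.subschemeι ≫ f')
    exact ⟨inferInstance, inferInstance, inferInstance⟩
  · show IsClosedImmersion (Scheme.IdealSheafData.inclusion i.unop.1.2.1)
    haveI : IsClosedImmersion (Scheme.IdealSheafData.inclusion i.unop.1.2.1 ≫ i.unop.1.1.subschemeι) := by
      rw [Scheme.IdealSheafData.inclusion_subschemeι]; infer_instance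
    exact IsClosedImmersion.of_comp _ i.unop.1.1.subschemeι
  · intro z _
    exact hK₁ i.unop.1 (hge i).1 z
  · show IX = (A.comap i.unop.1.1.subschemeι).comap (j.toImage ≫ Scheme.IdealSheafData.inclusion i.unop.1.2.1)
    rw [← Scheme.IdealSheafData.comap_comp, Category.assoc, Scheme.IdealSheafData.inclusion_subschemeι]
    exact hAj.symm.trans (congrArg A.comap j.toImage_imageι.symm)
  · show A.comap a.unop.1.1.subschemeι =
      (A.comap b.unop.1.1.subschemeι).comap (Scheme.IdealSheafData.inclusion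
        (show b.unop.1.1 ≤ a.unop.1.1 from (F.map t).unop.le))
    rw [← Scheme.IdealSheafData.comap_comp, Scheme.IdealSheafData.inclusion_subschemeι]
  · show A.comap i.unop.1.1.subschemeι ≤ IY.comap (i.unop.1.1.subschemeι ≫ f')
    refine le_trans (Scheme.IdealSheafData.comap_mono _ (hK₂.trans (sup_le_sup_left (hge i).2.1 _))) ?_
    dsimp only
    rw [Scheme.IdealSheafData.comap_sup, comap_subschemeι_self, sup_bot_eq, ← Scheme.IdealSheafData.comap_comp]
  · show A.comap i.unop.1.1.subschemeι = IY.comap (i.unop.1.1.subschemeι ≫ f')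
    rw [hAL hmin, Scheme.IdealSheafData.comap_comp]
  · exact hK₃ hp i.unop.1 (hge i).2.2.1
  · exact hK₄ hi i.unop.1 (hge i).2.2.2

end Groth.Agent.ModDesc
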