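import Groth.Agent.ModPairLib.Dense

/-!
# Scheme-theoretic closures of open subschemes
-/

set_option autoImplicit false
set_option linter.style.haveILetI false
set_option backward.isDefEq.respectTransparency false
set_option backward.isDefEq.respectTransparency.types false

universe u

open CategoryTheory CategoryTheory.Limits AlgebraicGeometry TopologicalSpace

namespace Groth.Agent.ModDesc

variable {X Y P : Scheme.{u}}

/-- A morphism is scheme-theoretically dense in its image. -/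
theorem ker_toImage (f : X ⟶ Y) [QuasiCompact f] : f.toImage.ker = ⊥ := by
  refine Scheme.IdealSheafData.ext_of_iSup_eq_top
    (fun U : Y.affineOpens => (⟨f.imageι ⁻¹ᵁ U.1, U.2.preimage f.imageι⟩ : f.image.affineOpens))
    (f.imageι.iSup_preimage_eq_top (iSup_affineOpens_eq_top Y)) fun U => ?_
  rw [Scheme.Hom.ker_apply, Scheme.IdealSheafData.ideal_bot, Pi.bot_apply]
  exact (RingHom.injective_iff_ker_eq_bot _).1 (f.toImage_app_injective U)

/-- The closure of an open restricts to the open. -/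
theorem isIso_imageι_restrict (O : P.Opens) [QuasiCompact O.ι] : IsIso (O.ι.imageι ∣_ O) := by
  haveI : IsClosedImmersion (O.ι.imageι ∣_ O) :=
    IsZariskiLocalAtTarget.restrict (P := @IsClosedImmersion) inferInstance O
  rw [IsClosedImmersion.isIso_iff_ker_eq_bot]
  refine Scheme.IdealSheafData.ext (funext fun V => ?_)
  rw [Scheme.ker_morphismRestrict_ideal, Scheme.IdealSheafData.ker_subschemeι, Scheme.Hom.ker_apply,
    Scheme.IdealSheafData.ideal_bot, Pi.bot_apply]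
  refine (RingHom.injective_iff_ker_eq_bot _).1 ?_
  rw [Scheme.Opens.ι_app]
  have e : O.ι ''ᵁ O.ι ⁻¹ᵁ (O.ι ''ᵁ V.1) = O.ι ''ᵁ V.1 := by rw [O.ι.preimage_image_eq]
  haveI : IsIso (homOfLE e.le) := ⟨homOfLE e.ge, Subsingleton.elim _ _, Subsingleton.elim _ _⟩
  exact (ConcreteCategory.bijective_of_isIso (P.presheaf.map (homOfLE e.le).op)).1

/-- The open is dense in its closure. -/
theorem dominant_preimage_imageι (O : P.Opens) [QuasiCompact O.ι] :
    IsSchemeTheoreticallyDominant (O.ι.imageι ⁻¹ᵁ O).ι := by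
  have hr : Set.range O.ι.toImage ⊆ Set.range (O.ι.imageι ⁻¹ᵁ O).ι := by
    rw [Scheme.Opens.range_ι]
    rintro _ ⟨z, rfl⟩
    show O.ι.imageι (O.ι.toImage z) ∈ O
    rw [← Scheme.Hom.comp_apply, O.ι.toImage_imageι]
    exact z.2
  refine ⟨le_bot_iff.1 ?_⟩
  calc (O.ι.imageι ⁻¹ᵁ O).ι.ker
      ≤ (IsOpenImmersion.lift (O.ι.imageι ⁻¹ᵁ O).ι O.ι.toImage hr ≫ (O.ι.imageι ⁻¹ᵁ O).ι).ker :=
        Scheme.Hom.le_ker_comp _ _
    _ = ⊥ := by rw [IsOpenImmersion.lift_fac, ker_toImage]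

/-- A closed subscheme in which an open is dense and which contains the open is the closure of the open. -/
theorem ker_eq_closure (O : P.Opens) (a : X ⟶ P) [IsClosedImmersion a] [IsIso (a ∣_ O)]
    [IsSchemeTheoreticallyDominant (a ⁻¹ᵁ O).ι] : a.ker = O.ι.ker := by
  calc a.ker = (a ⁻¹ᵁ O).ι.ker.map a := by
        rw [(a ⁻¹ᵁ O).ι.ker_eq_bot, Scheme.IdealSheafData.map_bot]
    _ = ((a ⁻¹ᵁ O).ι ≫ a).ker := (Scheme.Hom.ker_comp _ _).symm
    _ = O.ι.ker := by rw [← morphismRestrict_ι, Scheme.Hom.ker_comp_of_isIso]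

/-- Closed subschemes with the same ideal are isomorphic. -/
theorem exists_iso_of_ker_eq (a : X ⟶ P) (b : Y ⟶ P) [IsClosedImmersion a] [IsClosedImmersion b]
    (h : a.ker = b.ker) : ∃ e : X ≅ Y, e.hom ≫ b = a := by
  refine ⟨⟨IsClosedImmersion.lift b a h.ge, IsClosedImmersion.lift a b h.le, ?_, ?_⟩, IsClosedImmersion.lift_fac _ _ _⟩
  · rw [← cancel_mono a, Category.assoc, IsClosedImmersion.lift_fac, IsClosedImmersion.lift_fac, Category.id_comp]
  · rw [← cancel_mono b, Category.assoc, IsClosedImmersion.lift_fac, IsClosedImmersion.lift_fac, Category.id_comp]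

/-- Being an isomorphism over an open is stable under base change. -/
theorem isIso_restrict_of_isPullback {A S T : Scheme.{u}} {fst : P ⟶ A} {snd : P ⟶ T} {f : A ⟶ S} {g : T ⟶ S}
    (h : IsPullback fst snd f g) (U : S.Opens) (hU : IsIso (g ∣_ U)) : IsIso (fst ∣_ (f ⁻¹ᵁ U)) := by
  have hle : (fst ⁻¹ᵁ (f ⁻¹ᵁ U)) = snd ⁻¹ᵁ (g ⁻¹ᵁ U) := by
    rw [← Scheme.Hom.comp_preimage, ← Scheme.Hom.comp_preimage, h.w]
  -- paste the restriction squares
  have s1 := (isPullback_morphismRestrict fst (f ⁻¹ᵁ U)).flip.paste_horiz h.flip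
  rw [← morphismRestrict_ι f U] at s1
  let q := snd.resLE (g ⁻¹ᵁ U) (fst ⁻¹ᵁ (f ⁻¹ᵁ U)) hle.le
  have hq : q ≫ (g ⁻¹ᵁ U).ι = (fst ⁻¹ᵁ (f ⁻¹ᵁ U)).ι ≫ snd := Scheme.Hom.resLE_comp_ι _ _
  have hw : (fst ∣_ (f ⁻¹ᵁ U)) ≫ (f ∣_ U) = q ≫ (g ∣_ U) := by
    rw [← cancel_mono U.ι, Category.assoc, Category.assoc, morphismRestrict_ι, morphismRestrict_ι,
      morphismRestrict_ι_assoc, reassoc_of% hq, h.w]
  have s2 : IsPullback q (fst ∣_ (f ⁻¹ᵁ U)) (g ∣_ U) (f ∣_ U) := by
    refine IsPullback.of_right ?_ hw.symm (isPullback_morphismRestrict g U).flip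
    rw [hq]
    exact s1
  haveI := hU
  exact s2.isIso_snd_of_isIso

end Groth.Agent.ModDesc
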