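import Groth.Agent.ModDesc.Approx
import Groth.Agent.ModDesc.Closure
import Groth.Agent.ConsPropLib.Approx
import Groth.Agent.MorLib.ProperFT
import Groth.Agent.MorLib.DescendIso

/-!
# Descent of abstract admissible blow-ups along limits
-/

set_option autoImplicit false
set_option linter.style.haveILetI false
set_option backward.isDefEq.respectTransparency false
set_option backward.isDefEq.respectTransparency.types false
set_option maxHeartbeats 1000000

universe u

open CategoryTheory CategoryTheory.Limits AlgebraicGeometry TopologicalSpace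
open Groth.Agent.MorLib Groth.Agent.ConsPropLib

namespace Groth.Agent.ModDesc

theorem isIso_restrict_congr {A B : Scheme.{u}} {f g : A ⟶ B} (h : f = g) {U V : B.Opens} (e : U = V)
    (hi : IsIso (f ∣_ U)) : IsIso (g ∣_ V) := by
  subst h e; exact hi

/-- An abstract admissible blow-up of a limit comes from a stage. -/
theorem exists_descend_admBlowup {I : Type u} [SmallCategory I] [IsCofiltered I] (D : I ⥤ Scheme.{u})
    (c : Cone D) (hc : IsLimit c) [∀ (i j : I) (t : i ⟶ j), IsAffineHom (D.map t)]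
    [∀ i, CompactSpace (D.obj i)] [∀ i, QuasiSeparatedSpace (D.obj i)]
    (J : ∀ i, (D.obj i).IdealSheafData) (hJ : ∀ i, BlowUp.IsEffCartierIdeal (J i))
    (hmin : ∀ (i j : I) (t : i ⟶ j), ModPair.IsMinimal (J i) (J j) (D.map t))
    (IX : c.pt.IdealSheafData) (hIX : ∀ i, IX = (J i).comap (c.π.app i))
    {Y : Scheme.{u}} (s : Y ⟶ c.pt) (hY : BlowUp.IsEffCartierIdeal (IX.comap s))
    (hs : ModPair.IsAdmBlowup (IX.comap s) IX s) :
    ∃ (i : I) (Yi : Scheme.{u}) (IYi : Yi.IdealSheafData) (si : Yi ⟶ D.obj i),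
      BlowUp.IsEffCartierIdeal IYi ∧ ModPair.IsAdmBlowup IYi (J i) si ∧
        ∃ e : Y ≅ ModPair.mprod (c.π.app i) si IX IYi,
          e.hom ≫ ModPair.mprodι (c.π.app i) si IX IYi ≫ pullback.fst (c.π.app i) si = s := by
  classical
  haveI : ∀ {i j : I} (t : i ⟶ j), IsAffineHom (D.map t) := fun {i j} t => inferInstance
  haveI := Scheme.compactSpace_of_isLimit _ _ hc
  obtain ⟨i₀⟩ : Nonempty I := IsCofiltered.nonempty
  haveI := isAffineHom_π_app D c hc i₀
  haveI : QuasiSeparatedSpace c.pt := quasiSeparatedSpace_of_quasiSeparated (c.π.app i₀)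
  have hXc : BlowUp.IsEffCartierIdeal IX := by
    rw [hIX i₀]
    exact ModPairLib.isEffCartier_comap_π D c hc J hJ hmin i₀
  have hJp := fun i => ModPairLib.isLocPrincipal_of_isEffCartier (hJ i)
  haveI : IsProper s := hs.2.1
  haveI : CompactSpace Y := QuasiCompact.compactSpace_of_compactSpace s
  haveI : QuasiSeparatedSpace Y := quasiSeparatedSpace_of_quasiSeparated s
  -- a finitely presented neighbourhood
  obtain ⟨A, _, _, DA, cA, -, eA, JA, hA1, -, hA3, -, -, -, -, -, hAp, hAi⟩ :=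
    exists_approx (IX.comap s) IX hY hXc s (le_refl _)
  obtain ⟨α⟩ : Nonempty A := IsCofiltered.nonempty
  let s' : (DA.obj α).left ⟶ c.pt := (DA.obj α).hom
  let a₀ : Y ⟶ (DA.obj α).left := eA.inv.left ≫ (cA.π.app α).left
  haveI : IsClosedImmersion a₀ := by
    haveI := hA3 α
    haveI : IsIso eA.inv.left := inferInstanceAs (IsIso ((CategoryTheory.Over.forget _).map eA.inv))
    exact inferInstanceAs (IsClosedImmersion (eA.inv.left ≫ (cA.π.app α).left))
  have ha₀ : a₀ ≫ s' = s := by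
    show (eA.inv.left ≫ (cA.π.app α).left) ≫ (DA.obj α).hom = s
    rw [Category.assoc]
    exact (congrArg (eA.inv.left ≫ ·) (CategoryTheory.Over.w (cA.π.app α))).trans (CategoryTheory.Over.w eA.inv)
  haveI hs'p : IsProper s' := hAp inferInstance α
  haveI hs'i : IsIso (s' ∣_ ModPair.interior IX) := hAi rfl hs.2.2 α
  haveI : LocallyOfFinitePresentation s' := (hA1 α).1
  haveI : QuasiCompact s' := (hA1 α).2.1
  haveI : QuasiSeparated s' := (hA1 α).2.2
  -- a model, proper at some stage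
  obtain ⟨m, Xm, fm, gm, hm⟩ := ConsPropLib.hasModel hc s'
  haveI := hm.lfp; haveI := hm.qc; haveI := hm.qs
  obtain ⟨k, φ, hk⟩ := Desc.descend D c hc m (P := @IsProper) (Q := @LocallyOfFiniteType)
    Ultra.core_isProper fm inferInstance (Desc.of_two (@IsProper) hm.sq (IsPullback.of_hasPullback _ _) hs'p)
  have hM := hm.pushed φ
  let fk := pullback.snd fm (D.map φ)
  let gk := hm.push φ
  haveI : IsProper fk := hk
  haveI : LocallyOfFinitePresentation fk := hM.lfp
  let U := ModPair.interior (J k)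
  haveI := ModPairLib.isAffineHom_interior (hJp k)
  haveI : CompactSpace (U : Scheme.{u}) := QuasiCompact.compactSpace_of_compactSpace U.ι
  have hV : c.π.app k ⁻¹ᵁ U = ModPair.interior IX := by
    rw [hIX k]; exact ModPairLib.preimage_interior _ _
  let V := c.π.app k ⁻¹ᵁ U
  let qX : (s' ⁻¹ᵁ V : Scheme.{u}) ⟶ (fk ⁻¹ᵁ U : Scheme.{u}) :=
    gk.resLE (fk ⁻¹ᵁ U) (s' ⁻¹ᵁ V) (by rw [← Scheme.Hom.comp_preimage, ← Scheme.Hom.comp_preimage, hM.sq.w])
  have hqX : qX ≫ (fk ⁻¹ᵁ U).ι = (s' ⁻¹ᵁ V).ι ≫ gk := Scheme.Hom.resLE_comp_ι _ _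
  have hsq : IsPullback qX (s' ∣_ V) (fk ∣_ U) (c.π.app k ∣_ U) := by
    have s1 : IsPullback ((s' ⁻¹ᵁ V).ι ≫ gk) (s' ∣_ V) fk (V.ι ≫ c.π.app k) :=
      (isPullback_morphismRestrict s' V).flip.paste_horiz hM.sq
    rw [← hqX, ← morphismRestrict_ι] at s1
    refine IsPullback.of_right s1 ?_ (isPullback_morphismRestrict fk U).flip
    rw [← cancel_mono U.ι, Category.assoc, Category.assoc, morphismRestrict_ι, morphismRestrict_ι,
      reassoc_of% hqX, morphismRestrict_ι_assoc, hM.sq.w]
  haveI : LocallyOfFinitePresentation (fk ∣_ U) :=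
    IsZariskiLocalAtTarget.restrict (P := @LocallyOfFinitePresentation) inferInstance U
  haveI : QuasiCompact (fk ∣_ U) := IsZariskiLocalAtTarget.restrict (P := @QuasiCompact) inferInstance U
  haveI : QuasiSeparated (fk ∣_ U) := IsZariskiLocalAtTarget.restrict (P := @QuasiSeparated) inferInstance U
  obtain ⟨i, ψ, Xj, Yj, fj, gj, pY, pX, hYj, hXj, hiso⟩ :=
    Desc.descend₂ D c hc (P := MorphismProperty.isomorphisms Scheme.{u}) (Q := @LocallyOfFinitePresentation)
      Desc.core_iso (fk ∣_ U) U.ι inferInstance (s' ∣_ V) V.ι (c.π.app k ∣_ U) qX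
      (isPullback_morphismRestrict (c.π.app k) U) hsq (isIso_restrict_congr rfl hV.symm hs'i)
  have hMi := hM.pushed ψ
  let fi := pullback.snd fk (D.map ψ)
  let gi := hM.push ψ
  haveI : IsProper fi := inferInstanceAs (IsProper (pullback.snd fk (D.map ψ)))
  let Ui := ModPair.interior (J i)
  have hUi : D.map ψ ⁻¹ᵁ U = Ui := by
    show D.map ψ ⁻¹ᵁ ModPair.interior (J k) = ModPair.interior (J i)
    rw [show J i = (J k).comap (D.map ψ) from hmin i k ψ]
    exact ModPairLib.preimage_interior _ _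
  haveI hfi : IsIso (fi ∣_ Ui) := by
    refine isIso_restrict_congr rfl hUi ?_
    have hp := hXj.paste_horiz (isPullback_morphismRestrict fk U).flip
    have H : MorphismProperty.isomorphisms Scheme.{u} (pullback.snd fk (pY ≫ U.ι)) :=
      Desc.of_two _ hp (IsPullback.of_hasPullback _ _) hiso
    have s1 := (isPullback_morphismRestrict fi (D.map ψ ⁻¹ᵁ U)).flip.paste_horiz (IsPullback.of_hasPullback fk (D.map ψ))
    exact Desc.of_factor (MorphismProperty.isomorphisms Scheme.{u}) H
      (a := hYj.lift (D.map ψ ∣_ U) (D.map ψ ⁻¹ᵁ U).ι (morphismRestrict_ι _ _))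
      (by rw [hYj.lift_fst_assoc, morphismRestrict_ι]) s1
  -- the closure of the interior
  let O₁ := fi ⁻¹ᵁ Ui
  haveI : IsAffineHom O₁.ι := by
    show IsAffineHom (fi ⁻¹ᵁ ModPair.interior (J i)).ι
    rw [ModPairLib.preimage_interior]
    exact ModPairLib.isAffineHom_interior ((hJp i).comap fi)
  let si : O₁.ι.image ⟶ D.obj i := O₁.ι.imageι ≫ fi
  let IYi := (J i).comap si
  haveI := isIso_imageι_restrict O₁
  haveI := dominant_preimage_imageι O₁
  have hIYi : BlowUp.IsEffCartierIdeal IYi := by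
    have e : O₁.ι.imageι ⁻¹ᵁ O₁ = ModPair.interior IYi := ModPairLib.preimage_interior (J i) si
    haveI := ModPairLib.isAffineHom_interior ((hJp i).comap si)
    haveI : QuasiCompact (O₁.ι.imageι ⁻¹ᵁ O₁).ι := by rw [e]; infer_instance
    exact ModPairLib.isEffCartier_of_dense ((hJp i).comap si) _ e.le
  have hsi : IsIso (si ∣_ Ui) := by
    show IsIso ((O₁.ι.imageι ≫ fi) ∣_ Ui)
    rw [morphismRestrict_comp]
    haveI : IsIso (O₁.ι.imageι ∣_ (fi ⁻¹ᵁ Ui)) := isIso_imageι_restrict O₁
    exact @IsIso.comp_isIso _ _ _ _ _ _ _ this hfi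
  refine ⟨i, O₁.ι.image, IYi, si, hIYi, ⟨rfl, inferInstanceAs (IsProper (O₁.ι.imageι ≫ fi)), hsi⟩, ?_⟩
  -- both sides are the closure of the interior
  let π := c.π.app i
  let a₂ : pullback π si ⟶ (DA.obj α).left :=
    hMi.sq.lift (pullback.snd π si ≫ O₁.ι.imageι) (pullback.fst π si)
      (by rw [Category.assoc]; exact pullback.condition.symm)
  have ha₂ : a₂ ≫ s' = pullback.fst π si := hMi.sq.lift_snd _ _ _
  have hsm : IsPullback (pullback.snd π si) a₂ O₁.ι.imageι gi := by
    refine IsPullback.of_bot ?_ (hMi.sq.lift_fst _ _ _).symm hMi.sq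
    rw [ha₂]
    exact (IsPullback.of_hasPullback π si).flip
  haveI : IsClosedImmersion a₂ := MorphismProperty.of_isPullback hsm inferInstance
  let M := ModPair.prodInterior π si IX IYi
  have hM' : M = pullback.fst π si ⁻¹ᵁ ModPair.interior IX :=
    ModPairLib.prodInterior_eq_fst (show ModPair.IsAmbient IX (J i) π from (hIX i).le) rfl
  haveI : IsAffineHom M.ι := by
    rw [hM', ModPairLib.preimage_interior]
    exact ModPairLib.isAffineHom_interior ((ModPairLib.isLocPrincipal_of_isEffCartier hXc).comap _)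
  let b : ModPair.mprod π si IX IYi ⟶ (DA.obj α).left := ModPair.mprodι π si IX IYi ≫ a₂
  let O := s' ⁻¹ᵁ ModPair.interior IX
  haveI : IsIso (a₀ ∣_ O) := by
    have h2 : IsIso ((a₀ ≫ s') ∣_ ModPair.interior IX) := isIso_restrict_congr ha₀.symm rfl hs.2.2
    rw [morphismRestrict_comp] at h2
    exact @IsIso.of_isIso_comp_right _ _ _ _ _ _ (s' ∣_ ModPair.interior IX) hs'i h2
  haveI : IsSchemeTheoreticallyDominant (a₀ ⁻¹ᵁ O).ι := by
    show IsSchemeTheoreticallyDominant (a₀ ⁻¹ᵁ (s' ⁻¹ᵁ ModPair.interior IX)).ι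
    rw [← Scheme.Hom.comp_preimage, ha₀, ModPairLib.preimage_interior]
    exact ModPairLib.isSchemeTheoreticallyDominant_interior hY
  have hbs : b ≫ s' = ModPair.mprodι π si IX IYi ≫ pullback.fst π si := by
    show (ModPair.mprodι π si IX IYi ≫ a₂) ≫ s' = _
    rw [Category.assoc, ha₂]
  have hπ : π ⁻¹ᵁ Ui = ModPair.interior IX := by
    rw [hIX i]; exact ModPairLib.preimage_interior _ _
  haveI : IsIso (b ∣_ O) := by
    have hf : IsIso (pullback.fst π si ∣_ ModPair.interior IX) :=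
      isIso_restrict_congr rfl hπ (isIso_restrict_of_isPullback (IsPullback.of_hasPullback π si) Ui hsi)
    have hm' : IsIso (ModPair.mprodι π si IX IYi ∣_ (pullback.fst π si ⁻¹ᵁ ModPair.interior IX)) :=
      isIso_restrict_congr rfl hM' (isIso_imageι_restrict M)
    have h1 : IsIso ((ModPair.mprodι π si IX IYi ≫ pullback.fst π si) ∣_ ModPair.interior IX) := by
      rw [morphismRestrict_comp]
      exact @IsIso.comp_isIso _ _ _ _ _ _ _ hm' hf
    have h2 : IsIso ((b ≫ s') ∣_ ModPair.interior IX) := isIso_restrict_congr hbs.symm rfl h1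
    rw [morphismRestrict_comp] at h2
    exact @IsIso.of_isIso_comp_right _ _ _ _ _ _ (s' ∣_ ModPair.interior IX) hs'i h2
  haveI : IsSchemeTheoreticallyDominant (b ⁻¹ᵁ O).ι := by
    show IsSchemeTheoreticallyDominant (b ⁻¹ᵁ (s' ⁻¹ᵁ ModPair.interior IX)).ι
    rw [← Scheme.Hom.comp_preimage, hbs, Scheme.Hom.comp_preimage, ← hM']
    exact dominant_preimage_imageι M
  haveI : IsClosedImmersion b := inferInstanceAs (IsClosedImmersion (ModPair.mprodι π si IX IYi ≫ a₂))
  obtain ⟨e, he⟩ := exists_iso_of_ker_eq a₀ b ((ker_eq_closure O a₀).trans (ker_eq_closure O b).symm)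
  refine ⟨e, ?_⟩
  rw [← hbs, ← Category.assoc, he, ha₀]

end Groth.Agent.ModDesc
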