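import Groth.Agent.MorLib.IdealFG2

/-!
# An inclusion of ideal sheaves over a limit holds at some stage
-/

set_option autoImplicit false
set_option linter.style.haveILetI false
set_option backward.isDefEq.respectTransparency.types false

universe u

open CategoryTheory CategoryTheory.Limits AlgebraicGeometry TopologicalSpace
open Groth.Agent.MorLib

namespace Groth.Agent.ModDesc

variable {I : Type u} [SmallCategory I] {D : I ⥤ Scheme.{u}} {c : Cone D} {i : I} (U : (D.obj i).Opens)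

/-- The preimage of an open at a stage. -/
abbrev pre {j : I} (f : j ⟶ i) : (D.obj j).Opens := D.map f ⁻¹ᵁ U

variable {U}

theorem pre_le {j k : I} {f : j ⟶ i} {h : k ⟶ i} (g : k ⟶ j) (hw : g ≫ f = h) :
    pre U h ≤ D.map g ⁻¹ᵁ pre U f := by
  subst hw
  rw [pre, pre, ← Scheme.Hom.comp_preimage, ← D.map_comp]

theorem pt_le {j : I} (f : j ⟶ i) : c.π.app i ⁻¹ᵁ U ≤ c.π.app j ⁻¹ᵁ pre U f := by
  rw [pre, ← Scheme.Hom.comp_preimage, c.w]

variable (U)

/-- The restriction to a later stage. -/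
noncomputable def rho {j k : I} {f : j ⟶ i} {h : k ⟶ i} (g : k ⟶ j) (hw : g ≫ f = h) :
    Γ(D.obj j, pre U f) →+* Γ(D.obj k, pre U h) :=
  ((D.map g).appLE _ _ (pre_le g hw)).hom

/-- The map to a stage. -/
noncomputable def tau {j : I} (f : j ⟶ i) : Γ(D.obj i, U) →+* Γ(D.obj j, pre U f) :=
  ((D.map f).appLE U (pre U f) le_rfl).hom

variable (c) in
/-- The map to the limit. -/
noncomputable def pim {j : I} (f : j ⟶ i) : Γ(D.obj j, pre U f) →+* Γ(c.pt, c.π.app i ⁻¹ᵁ U) :=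
  ((c.π.app j).appLE _ _ (pt_le f)).hom

theorem rho_tau {j k : I} {f : j ⟶ i} {h : k ⟶ i} (g : k ⟶ j) (hw : g ≫ f = h) (x : Γ(D.obj i, U)) :
    rho U g hw (tau U f x) = tau U h x :=
  IdealFG.appLE_appLE_apply (D.map g) (D.map f) (D.map h) (by rw [← D.map_comp, hw]) le_rfl (pre_le g hw) le_rfl x

theorem pim_rho {j k : I} {f : j ⟶ i} {h : k ⟶ i} (g : k ⟶ j) (hw : g ≫ f = h) (y : Γ(D.obj j, pre U f)) :
    pim c U h (rho U g hw y) = pim c U f y :=
  IdealFG.appLE_appLE_apply (c.π.app k) (D.map g) (c.π.app j) (c.w g) (pre_le g hw) (pt_le h) (pt_le f) y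

theorem pim_tau {j : I} (f : j ⟶ i) (x : Γ(D.obj i, U)) :
    pim c U f (tau U f x) = ((c.π.app i).appLE U _ le_rfl).hom x :=
  IdealFG.appLE_appLE_apply (c.π.app j) (D.map f) (c.π.app i) (c.w f) le_rfl (pt_le f) le_rfl x

theorem rho_mem {j k : I} {f : j ⟶ i} {h : k ⟶ i} (g : k ⟶ j) (hw : g ≫ f = h) (a : Ideal Γ(D.obj i, U))
    {y : Γ(D.obj j, pre U f)} (hy : y ∈ a.map (tau U f)) : rho U g hw y ∈ a.map (tau U h) := by
  have e : (rho U g hw).comp (tau U f) = tau U h := RingHom.ext (rho_tau U g hw)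
  rw [← e, ← Ideal.map_map]
  exact Ideal.mem_map_of_mem _ hy

variable [IsCofiltered I]

theorem exists_refine {j k : I} (f : j ⟶ i) (g : k ⟶ i) :
    ∃ (l : I) (h : l ⟶ i) (p : l ⟶ j) (q : l ⟶ k), p ≫ f = h ∧ q ≫ g = h := by
  obtain ⟨l, p, q, -⟩ := IsCofilteredOrEmpty.cone_objs j k
  obtain ⟨m, r, hr⟩ := IsCofilteredOrEmpty.cone_maps (p ≫ f) (q ≫ g)
  exact ⟨m, r ≫ p ≫ f, r ≫ p, r ≫ q, Category.assoc _ _ _, by rw [Category.assoc, hr]⟩

/-- A member of the ideal generated in the limit comes from the ideal generated at some stage. -/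
theorem exists_mem_map (hc : IsLimit c) [∀ {i j} (f : i ⟶ j), IsAffineHom (D.map f)] (hU : IsAffineOpen U)
    (a : Ideal Γ(D.obj i, U)) {z : Γ(c.pt, c.π.app i ⁻¹ᵁ U)}
    (hz : z ∈ a.map ((c.π.app i).appLE U (c.π.app i ⁻¹ᵁ U) le_rfl).hom) :
    ∃ (j : I) (f : j ⟶ i) (y : Γ(D.obj j, pre U f)), y ∈ a.map (tau U f) ∧ pim c U f y = z := by
  let φ : Γ(D.obj i, U) →+* Γ(c.pt, c.π.app i ⁻¹ᵁ U) := ((c.π.app i).appLE U _ le_rfl).hom
  have hz' : z ∈ Submodule.span Γ(c.pt, c.π.app i ⁻¹ᵁ U) (φ '' (a : Set Γ(D.obj i, U))) := hz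
  refine Submodule.span_induction (R := Γ(c.pt, c.π.app i ⁻¹ᵁ U))
    (p := fun z _ => ∃ (j : I) (f : j ⟶ i) (y : Γ(D.obj j, pre U f)),
    y ∈ a.map (tau U f) ∧ pim c U f y = z) ?_ ?_ ?_ ?_ hz'
  · rintro _ ⟨x, hx, rfl⟩
    exact ⟨i, 𝟙 i, tau U (𝟙 i) x, Ideal.mem_map_of_mem _ hx, pim_tau U (𝟙 i) x⟩
  · exact ⟨i, 𝟙 i, 0, zero_mem _, map_zero _⟩
  · rintro x y - - ⟨j, f, x', hx', rfl⟩ ⟨k, g, y', hy', rfl⟩
    obtain ⟨l, h, p, q, hp, hq⟩ := exists_refine f g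
    exact ⟨l, h, rho U p hp x' + rho U q hq y', add_mem (rho_mem U p hp a hx') (rho_mem U q hq a hy'),
      by rw [map_add, pim_rho, pim_rho]⟩
  · rintro r x - ⟨j, f, x', hx', rfl⟩
    obtain ⟨k, g, t, e, ht⟩ := IdealFG.exists_appLE_π_eq hc hU r
    obtain ⟨l, h, p, q, hp, hq⟩ := exists_refine f g
    exact ⟨l, h, rho U q hq t * rho U p hp x', Ideal.mul_mem_left _ _ (rho_mem U p hp a hx'),
      by rw [map_mul, pim_rho, pim_rho, smul_eq_mul]; exact congrArg (· * _) ht⟩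

/-- An element landing in the ideal generated in the limit lands in it at some stage. -/
theorem exists_tau_mem (hc : IsLimit c) [∀ {i j} (f : i ⟶ j), IsAffineHom (D.map f)] (hU : IsAffineOpen U)
    (a : Ideal Γ(D.obj i, U)) {x : Γ(D.obj i, U)}
    (hx : ((c.π.app i).appLE U (c.π.app i ⁻¹ᵁ U) le_rfl).hom x ∈
      a.map ((c.π.app i).appLE U (c.π.app i ⁻¹ᵁ U) le_rfl).hom) :
    ∃ (j : I) (f : j ⟶ i), tau U f x ∈ a.map (tau U f) := by
  obtain ⟨j, f, y, hy, hyx⟩ := exists_mem_map U hc hU a hx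
  have hcpt : IsCompact (pre U f : Set (D.obj j)) := (hU.preimage (D.map f)).isCompact
  obtain ⟨k, g, hk⟩ := exists_app_map_eq_map_of_isLimit D c hc hcpt (tau U f x) y (by
    have e : c.π.app j ⁻¹ᵁ pre U f ≤ c.π.app i ⁻¹ᵁ U := by rw [pre, ← Scheme.Hom.comp_preimage, c.w]
    have h := congrArg (c.pt.presheaf.map (homOfLE e).op) ((pim_tau U f x).trans hyx.symm)
    rw [pim, ← CommRingCat.comp_apply, ← CommRingCat.comp_apply] at h
    erw [Scheme.Hom.appLE_map] at h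
    simpa only [Scheme.Hom.app_eq_appLE] using h)
  refine ⟨k, g ≫ f, ?_⟩
  rw [← rho_tau U g rfl]
  have hk' := congrArg ((D.obj k).presheaf.map (homOfLE (pre_le g rfl)).op) hk
  rw [Scheme.Hom.app_eq_appLE, ← CommRingCat.comp_apply, ← CommRingCat.comp_apply, Scheme.Hom.appLE_map] at hk'
  rw [show rho U g rfl (tau U f x) = rho U g rfl y from hk']
  exact rho_mem U g rfl a hy

/-- An inclusion over the limit of ideal sheaves, the first of finite type, holds at some stage. -/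
theorem exists_comap_le (hc : IsLimit c) [∀ {i j} (f : i ⟶ j), IsAffineHom (D.map f)] [CompactSpace (D.obj i)]
    (K L : (D.obj i).IdealSheafData) (hK : IdealFG.IsFG K) (h : K.comap (c.π.app i) ≤ L.comap (c.π.app i)) :
    ∃ (j : I) (f : j ⟶ i), K.comap (D.map f) ≤ L.comap (D.map f) := by
  classical
  haveI : ∀ i, IsAffineHom (c.π.app i) := fun i => isAffineHom_π_app D c hc i
  obtain ⟨s, hs, hcov⟩ := isCompact_iff_finite_and_eq_biUnion_affineOpens.mp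
    (show IsCompact ((⊤ : (D.obj i).Opens) : Set (D.obj i)) from isCompact_univ)
  have hgen : ∀ W : (D.obj i).affineOpens, ∀ x ∈ K.ideal W, ∃ (j : I) (f : j ⟶ i),
      tau W.1 f x ∈ (L.ideal W).map (tau W.1 f) := by
    intro W x hx
    refine exists_tau_mem W.1 hc W.2 _ ?_
    have hW := h ⟨c.π.app i ⁻¹ᵁ W.1, W.2.preimage _⟩
    rw [ModPairLib.ideal_comap K (c.π.app i) W ⟨_, W.2.preimage _⟩ le_rfl,
      ModPairLib.ideal_comap L (c.π.app i) W ⟨_, W.2.preimage _⟩ le_rfl] at hW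
    exact hW (Ideal.mem_map_of_mem _ hx)
  have hmono : ∀ (W : (D.obj i).affineOpens) {j k : I} (f : j ⟶ i) (g : k ⟶ j) (h : k ⟶ i) (_ : g ≫ f = h)
      (x : Γ(D.obj i, W.1)), tau W.1 f x ∈ (L.ideal W).map (tau W.1 f) →
      tau W.1 h x ∈ (L.ideal W).map (tau W.1 h) := by
    intro W j k f g h hw x hx
    rw [← rho_tau W.1 g hw]
    exact rho_mem W.1 g hw _ hx
  have key : ∀ t : Finset (Σ W : (D.obj i).affineOpens, Γ(D.obj i, W.1)), (∀ p ∈ t, p.2 ∈ K.ideal p.1) →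
      ∃ (j : I) (f : j ⟶ i), ∀ p ∈ t, tau p.1.1 f p.2 ∈ (L.ideal p.1).map (tau p.1.1 f) := by
    intro t
    induction t using Finset.induction_on with
    | empty => exact fun _ => ⟨i, 𝟙 i, by simp⟩
    | insert p t _ ih =>
      intro ht
      obtain ⟨j, f, hf⟩ := ih fun q hq => ht q (Finset.mem_insert_of_mem hq)
      obtain ⟨k, g, hg⟩ := hgen p.1 p.2 (ht p (Finset.mem_insert_self _ _))
      obtain ⟨l, h, a, b, ha, hb⟩ := exists_refine f g
      refine ⟨l, h, fun q hq => ?_⟩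
      rcases Finset.mem_insert.1 hq with rfl | hq
      · exact hmono _ g b h hb _ hg
      · exact hmono _ f a h ha _ (hf q hq)
  choose gs hgs using fun W : (D.obj i).affineOpens => hK W
  obtain ⟨j, f, hf⟩ := key ((hs.toFinset).sigma gs) fun p hp =>
    (hgs p.1).le (Ideal.subset_span (Finset.mem_sigma.1 hp).2)
  refine ⟨j, f, Scheme.IdealSheafData.le_of_iSup_eq_top
    (fun W : hs.toFinset => (⟨D.map f ⁻¹ᵁ W.1.1, W.1.2.preimage _⟩ : (D.obj j).affineOpens))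
    (top_le_iff.mp fun x _ => ?_) fun W => ?_⟩
  · have hx : D.map f x ∈ (⊤ : (D.obj i).Opens) := trivial
    rw [hcov] at hx
    obtain ⟨O, hx⟩ := Opens.mem_iSup.mp hx
    obtain ⟨hO, hxO⟩ := Opens.mem_iSup.mp hx
    exact Opens.mem_iSup.mpr ⟨⟨O, hs.mem_toFinset.mpr hO⟩, hxO⟩
  · rw [ModPairLib.ideal_comap K (D.map f) W.1 ⟨_, W.1.2.preimage _⟩ le_rfl,
      ModPairLib.ideal_comap L (D.map f) W.1 ⟨_, W.1.2.preimage _⟩ le_rfl, ← hgs W.1, Ideal.map_span,
      Ideal.span_le]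
    rintro _ ⟨x, hx, rfl⟩
    exact hf ⟨W.1, x⟩ (Finset.mem_sigma.2 ⟨W.2, hx⟩)

end Groth.Agent.ModDesc
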