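import Groth.Agent.ModPairLib.MProd
import Groth.Agent.ModPairLib.Limit
import Groth.Agent.ModPairLib.Dense
import Groth.Agent.MorLib.LimExists
import Groth.Agent.MorLib.BaseChangeLim
import Groth.Agent.LimDomLib.Basic
import Groth.Agent.ModDesc.LE

/-!
# The system of closures of interiors in the base changes of an admissible blow-up
-/

set_option autoImplicit false
set_option linter.style.haveILetI false
set_option backward.isDefEq.respectTransparency false
set_option backward.isDefEq.respectTransparency.types false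

universe u

open CategoryTheory CategoryTheory.Limits AlgebraicGeometry TopologicalSpace

namespace Groth.Agent.ModDesc.Cls

variable {I : Type u} [SmallCategory I] (D : I ⥤ Scheme.{u}) (J : ∀ i, (D.obj i).IdealSheafData)
  {i : I} {Y : Scheme.{u}} (si : Y ⟶ D.obj i) (IY : Y.IdealSheafData)

/-- An admissible blow-up of a stage of a minimal system. -/
structure Hyp : Prop where
  J_eff : ∀ i, BlowUp.IsEffCartierIdeal (J i)
  minimal : ∀ (i j : I) (t : i ⟶ j), ModPair.IsMinimal (J i) (J j) (D.map t)
  Y_eff : BlowUp.IsEffCartierIdeal IY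
  adm : ModPair.IsAdmBlowup IY (J i) si

/-- The closure at a stage. -/
noncomputable abbrev obj (j : Over i) : Scheme.{u} := ModPair.mprod si (D.map j.hom) IY (J j.left)

/-- The projection to the stage. -/
noncomputable def toBase (j : Over i) : obj D J si IY j ⟶ D.obj j.left :=
  ModPair.mprodι si (D.map j.hom) IY (J j.left) ≫ pullback.snd si (D.map j.hom)

/-- The projection to the blow-up. -/
noncomputable def toStart (j : Over i) : obj D J si IY j ⟶ Y :=
  ModPair.mprodι si (D.map j.hom) IY (J j.left) ≫ pullback.fst si (D.map j.hom)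

/-- The modulus at a stage. -/
noncomputable def mod (j : Over i) : (obj D J si IY j).IdealSheafData :=
  (J j.left).comap (toBase D J si IY j)

variable {D J si IY}

theorem toStart_comp (j : Over i) :
    toStart D J si IY j ≫ si = toBase D J si IY j ≫ D.map j.hom := by
  rw [toStart, toBase, Category.assoc, Category.assoc, pullback.condition]

theorem hom_ext {j : Over i} {W : Scheme.{u}} {m m' : W ⟶ obj D J si IY j}
    (h1 : m ≫ toBase D J si IY j = m' ≫ toBase D J si IY j)
    (h2 : m ≫ toStart D J si IY j = m' ≫ toStart D J si IY j) : m = m' := by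
  rw [← cancel_mono (ModPair.mprodι si (D.map j.hom) IY (J j.left))]
  apply pullback.hom_ext
  · rw [Category.assoc, Category.assoc]; exact h2
  · rw [Category.assoc, Category.assoc]; exact h1

variable (h : Hyp D J si IY)
include h

theorem ambient_map {j k : I} (t : j ⟶ k) : ModPair.IsAmbient (J j) (J k) (D.map t) :=
  (h.minimal j k t).le

theorem mod_eff (j : Over i) : BlowUp.IsEffCartierIdeal (mod D J si IY j) :=
  ModPairLib.isEffCartier_comap_mprod_snd h.Y_eff (h.J_eff j.left)

theorem adm_toBase (j : Over i) :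
    ModPair.IsAdmBlowup (mod D J si IY j) (J j.left) (toBase D J si IY j) :=
  ModPairLib.isAdmBlowup_mprod (h.J_eff j.left) h.Y_eff h.adm (ambient_map h j.hom)

theorem ambient_toStart (j : Over i) :
    ModPair.IsAmbient (mod D J si IY j) IY (toStart D J si IY j) :=
  ModPairLib.ambient_blowup h.adm.1 (ambient_map h j.hom)

theorem exists_lift (j : Over i) {W : Scheme.{u}} (IW : W.IdealSheafData) (hW : BlowUp.IsEffCartierIdeal IW)
    (a : W ⟶ D.obj j.left) (b : W ⟶ Y) (ha : ModPair.IsAmbient IW (J j.left) a)
    (hb : ModPair.IsAmbient IW IY b) (e : a ≫ D.map j.hom = b ≫ si) :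
    ∃ m : W ⟶ obj D J si IY j, m ≫ toBase D J si IY j = a ∧ m ≫ toStart D J si IY j = b := by
  obtain ⟨m, hm⟩ := ModPairLib.exists_lift_mprod h.Y_eff (h.J_eff j.left) hW ha hb e
  refine ⟨m, ?_, ?_⟩
  · rw [toBase, reassoc_of% hm, pullback.lift_snd]
  · rw [toStart, reassoc_of% hm, pullback.lift_fst]

theorem exists_map {k j : Over i} (g : k ⟶ j) :
    ∃ m : obj D J si IY k ⟶ obj D J si IY j,
      m ≫ toBase D J si IY j = toBase D J si IY k ≫ D.map g.left ∧
        m ≫ toStart D J si IY j = toStart D J si IY k := by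
  refine exists_lift h j (mod D J si IY k) (mod_eff h k) _ _ ?_ (ambient_toStart h k) ?_
  · show (J k.left).comap _ ≤ _
    rw [Scheme.IdealSheafData.comap_comp, ← show J k.left = (J j.left).comap (D.map g.left) from
      h.minimal _ _ g.left]
  · rw [Category.assoc, ← D.map_comp, Over.w g, toStart_comp]

omit h in
/-- The system of closures. -/
noncomputable def diag (h : Hyp D J si IY) : Over i ⥤ Scheme.{u} where
  obj j := obj D J si IY j
  map g := (exists_map h g).choose
  map_id j := by
    refine hom_ext ?_ ?_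
    · rw [(exists_map h (𝟙 j)).choose_spec.1]
      simp
    · rw [(exists_map h (𝟙 j)).choose_spec.2]
      simp
  map_comp {a b d} f g := by
    refine hom_ext ?_ ?_
    · rw [(exists_map h (f ≫ g)).choose_spec.1, Category.assoc, (exists_map h g).choose_spec.1,
        reassoc_of% (exists_map h f).choose_spec.1]
      simp
    · rw [(exists_map h (f ≫ g)).choose_spec.2, Category.assoc, (exists_map h g).choose_spec.2,
        (exists_map h f).choose_spec.2]

theorem map_toBase {k j : Over i} (g : k ⟶ j) :
    (diag h).map g ≫ toBase D J si IY j = toBase D J si IY k ≫ D.map g.left :=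
  (exists_map h g).choose_spec.1

theorem map_toStart {k j : Over i} (g : k ⟶ j) :
    (diag h).map g ≫ toStart D J si IY j = toStart D J si IY k :=
  (exists_map h g).choose_spec.2

theorem mod_minimal (k j : Over i) (g : k ⟶ j) :
    ModPair.IsMinimal (mod D J si IY k) (mod D J si IY j) ((diag h).map g) := by
  show (J k.left).comap _ = ((J j.left).comap _).comap _
  rw [show J k.left = (J j.left).comap (D.map g.left) from h.minimal _ _ g.left,
    ← Scheme.IdealSheafData.comap_comp, ← Scheme.IdealSheafData.comap_comp]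
  exact congrArg _ (map_toBase h g).symm

theorem compactSpace_obj (j : Over i) [CompactSpace (D.obj j.left)] :
    CompactSpace ↥((diag h).obj j) := by
  haveI := (adm_toBase h j).2.1
  exact QuasiCompact.compactSpace_of_compactSpace (toBase D J si IY j)

theorem quasiSeparatedSpace_obj (j : Over i) [QuasiSeparatedSpace (D.obj j.left)] :
    QuasiSeparatedSpace ↥((diag h).obj j) := by
  haveI := (adm_toBase h j).2.1
  exact quasiSeparatedSpace_of_quasiSeparated (toBase D J si IY j)

theorem isAffineHom_map [∀ (i j : I) (t : i ⟶ j), IsAffineHom (D.map t)] {k j : Over i} (g : k ⟶ j) :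
    IsAffineHom ((diag h).map g) := by
  haveI : ∀ {i j : I} (t : i ⟶ j), IsAffineHom (D.map t) := fun {i j} t => inferInstance
  let G : pullback si (D.map k.hom) ⟶ pullback si (D.map j.hom) := (MorLib.BC.diag D si).map g
  haveI : IsAffineHom G := MorLib.BC.isAffineHom_map D si g
  have e : (diag h).map g ≫ ModPair.mprodι si (D.map j.hom) IY (J j.left) =
      ModPair.mprodι si (D.map k.hom) IY (J k.left) ≫ G := by
    apply pullback.hom_ext
    · rw [Category.assoc, Category.assoc, MorLib.BC.map_fst D si g]
      exact map_toStart h g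
    · rw [Category.assoc, Category.assoc, MorLib.BC.map_snd D si g, ← Category.assoc (ModPair.mprodι _ _ _ _)]
      exact map_toBase h g
  haveI : IsAffineHom ((diag h).map g ≫ ModPair.mprodι si (D.map j.hom) IY (J j.left)) := by
    rw [e]; infer_instance
  exact IsAffineHom.of_comp _ (ModPair.mprodι si (D.map j.hom) IY (J j.left))

theorem isSchemeTheoreticallyDominant_map [∀ (i j : I) (t : i ⟶ j), IsAffineHom (D.map t)]
    {k j : Over i} (g : k ⟶ j) [IsSchemeTheoreticallyDominant (D.map g.left)] :
    IsSchemeTheoreticallyDominant ((diag h).map g) := by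
  have hk : D.map g.left ⁻¹ᵁ ModPair.interior (J j.left) = ModPair.interior (J k.left) := by
    rw [ModPairLib.preimage_interior, ← show J k.left = (J j.left).comap (D.map g.left) from
      h.minimal _ _ g.left]
  haveI : IsSchemeTheoreticallyDominant (D.map g.left ∣_ ModPair.interior (J j.left)) :=
    IsSchemeTheoreticallyDominant.of_isPullback
      (isPullback_morphismRestrict (D.map g.left) (ModPair.interior (J j.left))).flip
  set V := toBase D J si IY j ⁻¹ᵁ ModPair.interior (J j.left) with hVdef
  haveI : IsIso (toBase D J si IY j ∣_ ModPair.interior (J j.left)) := (adm_toBase h j).2.2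
  haveI hBk : IsIso (toBase D J si IY k ∣_ (D.map g.left ⁻¹ᵁ ModPair.interior (J j.left))) := by
    rw [hk]; exact (adm_toBase h k).2.2
  haveI h1 : IsSchemeTheoreticallyDominant (((diag h).map g ≫ toBase D J si IY j) ∣_
      ModPair.interior (J j.left)) := by
    rw [map_toBase h g, morphismRestrict_comp]
    infer_instance
  haveI h2 : IsSchemeTheoreticallyDominant ((diag h).map g ∣_ V) := by
    rw [morphismRestrict_comp] at h1
    have e : (diag h).map g ∣_ V = (((diag h).map g ∣_ V) ≫ (toBase D J si IY j ∣_
        ModPair.interior (J j.left))) ≫ inv (toBase D J si IY j ∣_ ModPair.interior (J j.left)) := by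
      erw [Category.assoc, IsIso.hom_inv_id, Category.comp_id]
    rw [e]
    haveI := h1
    infer_instance
  haveI : IsSchemeTheoreticallyDominant V.ι := by
    rw [hVdef, ModPairLib.preimage_interior]
    exact ModPairLib.isSchemeTheoreticallyDominant_interior (mod_eff h j)
  haveI h3 : IsSchemeTheoreticallyDominant (((diag h).map g ⁻¹ᵁ V).ι ≫ (diag h).map g) := by
    rw [← morphismRestrict_ι]
    infer_instance
  exact ⟨le_bot_iff.1 ((Scheme.Hom.le_ker_comp _ _).trans_eq h3.ker_eq_bot)⟩

omit h

section Cone

variable (c : Cone D) (IX : c.pt.IdealSheafData)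

variable (si IY) in
/-- The closure in the base change to the limit. -/
noncomputable abbrev pt : Scheme.{u} := ModPair.mprod si (c.π.app i) IY IX

variable (si IY) in
/-- The projection to the limit. -/
noncomputable def ptBase : pt si IY c IX ⟶ c.pt :=
  ModPair.mprodι si (c.π.app i) IY IX ≫ pullback.snd si (c.π.app i)

variable (si IY) in
/-- The projection to the blow-up. -/
noncomputable def ptStart : pt si IY c IX ⟶ Y :=
  ModPair.mprodι si (c.π.app i) IY IX ≫ pullback.fst si (c.π.app i)

variable (si IY) in
/-- The modulus on the closure. -/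
noncomputable def ptMod : (pt si IY c IX).IdealSheafData := IX.comap (ptBase si IY c IX)

theorem ptStart_comp : ptStart si IY c IX ≫ si = ptBase si IY c IX ≫ c.π.app i := by
  rw [ptStart, ptBase, Category.assoc, Category.assoc, pullback.condition]

theorem pt_hom_ext {W : Scheme.{u}} {m m' : W ⟶ pt si IY c IX}
    (h1 : m ≫ ptBase si IY c IX = m' ≫ ptBase si IY c IX)
    (h2 : m ≫ ptStart si IY c IX = m' ≫ ptStart si IY c IX) : m = m' := by
  rw [← cancel_mono (ModPair.mprodι si (c.π.app i) IY IX)]
  apply pullback.hom_ext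
  · rw [Category.assoc, Category.assoc]; exact h2
  · rw [Category.assoc, Category.assoc]; exact h1

variable (hIX : ∀ j, IX = (J j).comap (c.π.app j)) (hXc : BlowUp.IsEffCartierIdeal IX)
include h hIX hXc

theorem adm_ptBase : ModPair.IsAdmBlowup (ptMod si IY c IX) IX (ptBase si IY c IX) :=
  ModPairLib.isAdmBlowup_mprod hXc h.Y_eff h.adm (hIX i).le

theorem ambient_ptStart : ModPair.IsAmbient (ptMod si IY c IX) IY (ptStart si IY c IX) :=
  ModPairLib.ambient_blowup h.adm.1 (hIX i).le

theorem ptMod_eff : BlowUp.IsEffCartierIdeal (ptMod si IY c IX) :=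
  ModPairLib.isEffCartier_comap_mprod_snd h.Y_eff hXc

theorem exists_proj (j : Over i) :
    ∃ m : pt si IY c IX ⟶ obj D J si IY j,
      m ≫ toBase D J si IY j = ptBase si IY c IX ≫ c.π.app j.left ∧
        m ≫ toStart D J si IY j = ptStart si IY c IX := by
  refine exists_lift h j (ptMod si IY c IX) (ptMod_eff h c IX hIX hXc) _ _ ?_
    (ambient_ptStart h c IX hIX hXc) ?_
  · show IX.comap _ ≤ _
    rw [Scheme.IdealSheafData.comap_comp, ← hIX j.left]
  · rw [Category.assoc, c.w, ptStart_comp]

omit h hIX hXc in
/-- The cone of closures. -/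
noncomputable def cone (h : Hyp D J si IY) (hIX : ∀ j, IX = (J j).comap (c.π.app j))
    (hXc : BlowUp.IsEffCartierIdeal IX) : Cone (diag h) where
  pt := pt si IY c IX
  π :=
    { app := fun j => (exists_proj h c IX hIX hXc j).choose
      naturality := fun k j g => by
        refine (Category.id_comp _).trans (hom_ext ?_ ?_)
        · rw [(exists_proj h c IX hIX hXc j).choose_spec.1, Category.assoc, map_toBase h g,
            reassoc_of% (exists_proj h c IX hIX hXc k).choose_spec.1, c.w]
        · rw [(exists_proj h c IX hIX hXc j).choose_spec.2, Category.assoc, map_toStart h g,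
            (exists_proj h c IX hIX hXc k).choose_spec.2] }

theorem proj_toBase (j : Over i) :
    (cone c IX h hIX hXc).π.app j ≫ toBase D J si IY j = ptBase si IY c IX ≫ c.π.app j.left :=
  (exists_proj h c IX hIX hXc j).choose_spec.1

theorem proj_toStart (j : Over i) :
    (cone c IX h hIX hXc).π.app j ≫ toStart D J si IY j = ptStart si IY c IX :=
  (exists_proj h c IX hIX hXc j).choose_spec.2

theorem ptMod_eq (j : Over i) :
    ptMod si IY c IX = (mod D J si IY j).comap ((cone c IX h hIX hXc).π.app j) := by
  show IX.comap _ = ((J j.left).comap _).comap _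
  refine (congrArg (fun K : c.pt.IdealSheafData => K.comap (ptBase si IY c IX)) (hIX j.left)).trans ?_
  show ((J j.left).comap _).comap _ = _
  rw [← Scheme.IdealSheafData.comap_comp, ← Scheme.IdealSheafData.comap_comp]
  exact congrArg _ (proj_toBase h c IX hIX hXc j).symm

attribute [local instance] CategoryTheory.isConnected_of_hasTerminal in
theorem nonempty_isLimit [IsCofiltered I] (hc : IsLimit c)
    [∀ (i j : I) (t : i ⟶ j), IsAffineHom (D.map t)] :
    Nonempty (IsLimit (cone c IX h hIX hXc)) := by
  haveI : ∀ {k j : Over i} (g : k ⟶ j), IsAffineHom ((diag h).map g) := fun g => isAffineHom_map h g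
  haveI : HasLimit (diag h) := MorLib.LimExists.hasLimit (diag h)
  let L := limit.cone (diag h)
  have hL : IsLimit L := limit.isLimit (diag h)
  let o : Over i := Over.mk (𝟙 i)
  let IL := (mod D J si IY o).comap (L.π.app o)
  have hILeff : BlowUp.IsEffCartierIdeal IL :=
    ModPairLib.isEffCartier_comap_π (diag h) L hL (fun j => mod D J si IY j) (mod_eff h)
      (mod_minimal h) o
  -- the map to the limit
  let sB : Cone (Over.forget i ⋙ D) :=
    { pt := L.pt
      π :=
        { app := fun j => L.π.app j ≫ toBase D J si IY j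
          naturality := fun k j g => by
            refine (Category.id_comp _).trans ?_
            show L.π.app j ≫ toBase D J si IY j = (L.π.app k ≫ toBase D J si IY k) ≫ D.map g.left
            rw [Category.assoc, ← map_toBase h g, ← L.w g, Category.assoc] } }
  have hcw : IsLimit (c.whisker (Over.forget i)) :=
    (Functor.Initial.isLimitWhiskerEquiv (Over.forget i) c).symm hc
  let a := hcw.lift sB
  have ha : ∀ j : Over i, a ≫ c.π.app j.left = L.π.app j ≫ toBase D J si IY j := fun j => hcw.fac sB j
  let b := L.π.app o ≫ toStart D J si IY o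
  have hab : a ≫ c.π.app i = b ≫ si := by
    show a ≫ c.π.app o.left = _
    rw [ha o, Category.assoc, toStart_comp]
    have e : D.map o.hom = 𝟙 (D.obj i) := D.map_id i
    erw [e, Category.comp_id]
  have ha' : ModPair.IsAmbient IL IX a := by
    show ((J i).comap _).comap _ ≤ IX.comap a
    rw [hIX i, ← Scheme.IdealSheafData.comap_comp, ← Scheme.IdealSheafData.comap_comp]
    exact (congrArg _ (ha o).symm).le
  have hb' : ModPair.IsAmbient IL IY b := by
    show _ ≤ IY.comap (_ ≫ _)
    rw [Scheme.IdealSheafData.comap_comp]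
    exact Scheme.IdealSheafData.comap_mono _ (ambient_toStart h o)
  obtain ⟨r, hr⟩ := ModPairLib.exists_lift_mprod h.Y_eff hXc hILeff ha' hb' hab
  have hrB : r ≫ ptBase si IY c IX = a := by
    rw [ptBase, reassoc_of% hr, pullback.lift_snd]
  have hrS : r ≫ ptStart si IY c IX = b := by
    rw [ptStart, reassoc_of% hr, pullback.lift_fst]
  let l : pt si IY c IX ⟶ L.pt := hL.lift (cone c IX h hIX hXc)
  have hl : ∀ j, l ≫ L.π.app j = (cone c IX h hIX hXc).π.app j := hL.fac _
  -- projections of the limit to the blow-up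
  have hS : ∀ j : Over i, L.π.app j ≫ toStart D J si IY j = b := by
    intro j
    show _ = L.π.app o ≫ toStart D J si IY o
    rw [← L.w (Over.homMk j.hom (by simp [o]) : j ⟶ o), Category.assoc, map_toStart h]
  have h1 : l ≫ r = 𝟙 _ := by
    refine pt_hom_ext c IX ?_ ?_
    · rw [Category.assoc, hrB, Category.id_comp]
      refine hcw.hom_ext fun j => ?_
      show (l ≫ a) ≫ c.π.app j.left = ptBase si IY c IX ≫ c.π.app j.left
      rw [Category.assoc, ha j, reassoc_of% hl j, proj_toBase h c IX hIX hXc j]
    · rw [Category.assoc, hrS, Category.id_comp, ← hS o, reassoc_of% hl o, proj_toStart h c IX hIX hXc o]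
  have h2 : r ≫ l = 𝟙 _ := by
    refine hL.hom_ext fun j => ?_
    rw [Category.assoc, hl, Category.id_comp]
    refine hom_ext ?_ ?_
    · rw [Category.assoc, proj_toBase h c IX hIX hXc j, reassoc_of% hrB, ha j]
    · rw [Category.assoc, proj_toStart h c IX hIX hXc j, hrS, hS j]
  exact ⟨hL.ofIsoLimit (Cone.ext ⟨r, l, h2, h1⟩ fun j => by
    show L.π.app j = r ≫ (cone c IX h hIX hXc).π.app j
    rw [← hl j, ← Category.assoc, h2, Category.id_comp])⟩

/-- Comparison with the product in the other order. -/
theorem exists_comparison {X' : Scheme.{u}} (s : X' ⟶ c.pt)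
    (hs : BlowUp.IsEffCartierIdeal (IX.comap s))
    (e : X' ≅ ModPair.mprod (c.π.app i) si IX IY)
    (he : e.hom ≫ ModPair.mprodι (c.π.app i) si IX IY ≫ pullback.fst (c.π.app i) si = s) :
    ∃ (m : X' ⟶ pt si IY c IX) (k : pt si IY c IX ⟶ X'),
      m ≫ k = 𝟙 _ ∧ k ≫ s = ptBase si IY c IX ∧ m ≫ ptBase si IY c IX = s := by
  let M := ModPair.mprodι (c.π.app i) si IX IY
  obtain ⟨w, hw⟩ := ModPairLib.exists_lift_mprod (p := c.π.app i) (f := si) hXc h.Y_eff
    (ptMod_eff h c IX hIX hXc) (ambient_ptStart h c IX hIX hXc)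
    (le_refl _ : ModPair.IsAmbient (ptMod si IY c IX) IX (ptBase si IY c IX)) (ptStart_comp c IX)
  let b := e.hom ≫ M ≫ pullback.snd (c.π.app i) si
  have hb : b ≫ si = s ≫ c.π.app i := by
    show (e.hom ≫ M ≫ pullback.snd (c.π.app i) si) ≫ si = _
    rw [← he]
    simp only [Category.assoc, M, pullback.condition]
  have hbm : ModPair.IsAmbient (IX.comap s) IY b := by
    show _ ≤ IY.comap b
    rw [show IY = (J i).comap si from h.adm.1, ← Scheme.IdealSheafData.comap_comp, hb,
      Scheme.IdealSheafData.comap_comp, ← hIX i]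
  obtain ⟨m, hm⟩ := ModPairLib.exists_lift_mprod (p := si) (f := c.π.app i) h.Y_eff hXc hs
    (le_refl _ : ModPair.IsAmbient (IX.comap s) IX s) hbm hb.symm
  have hmB : m ≫ ptBase si IY c IX = s := by rw [ptBase, reassoc_of% hm, pullback.lift_snd]
  have hmS : m ≫ ptStart si IY c IX = b := by rw [ptStart, reassoc_of% hm, pullback.lift_fst]
  refine ⟨m, w ≫ e.inv, ?_, ?_, hmB⟩
  · have : m ≫ w = e.hom := by
      rw [← cancel_mono M]
      apply pullback.hom_ext
      · simp only [Category.assoc, M, reassoc_of% hw, pullback.lift_fst, hmB, he]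
      · simp only [Category.assoc, M, reassoc_of% hw, pullback.lift_snd, hmS]
        rfl
    rw [reassoc_of% this, e.hom_inv_id]
  · rw [← he, Category.assoc, e.inv_hom_id_assoc, reassoc_of% hw, pullback.lift_fst]

end Cone

end Cls

section Descend

variable {I : Type u} [SmallCategory I] [IsCofiltered I] (D : I ⥤ Scheme.{u}) (c : Cone D)
  {S Y : Scheme.{u}}

/-- An ambient morphism from the limit comes from a stage. -/
theorem exists_descend_hom [CompactSpace S] [QuasiSeparatedSpace S] (hc : IsLimit c)
    (haff : ∀ (i j : I) (t : i ⟶ j), IsAffineHom (D.map t))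
    (hcpt : ∀ i, CompactSpace (D.obj i)) (hqs : ∀ i, QuasiSeparatedSpace (D.obj i))
    (J : ∀ i, (D.obj i).IdealSheafData) (hJ : ∀ i, BlowUp.IsEffCartierIdeal (J i))
    (hmin : ∀ (i j : I) (t : i ⟶ j), ModPair.IsMinimal (J i) (J j) (D.map t))
    (IX : c.pt.IdealSheafData) (hIX : ∀ i, IX = (J i).comap (c.π.app i))
    (f : Y ⟶ S) [CompactSpace Y] [QuasiSeparatedSpace Y] [LocallyOfFiniteType f]
    (IY : Y.IdealSheafData)
    (h : (∀ (i j : I) (t : i ⟶ j), IsSchemeTheoreticallyDominant (D.map t)) ∨
      LocallyOfFinitePresentation f)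
    (t : D ⟶ (Functor.const I).obj S) (φ : c.pt ⟶ Y) (hφ : ModPair.IsAmbient IX IY φ)
    (ha : ∀ i, c.π.app i ≫ t.app i = φ ≫ f) :
    ∃ (i : I) (g : D.obj i ⟶ Y), ModPair.IsAmbient (J i) IY g ∧ c.π.app i ≫ g = φ ∧ g ≫ f = t.app i := by
  haveI : ∀ {i j : I} (t : i ⟶ j), IsAffineHom (D.map t) := fun {i j} t => haff i j t
  haveI := hcpt
  haveI := hqs
  have ha' : c.π ≫ t = (Functor.const I).map (φ ≫ f) := by
    ext i
    exact ha i
  obtain ⟨i, g, hg, hg'⟩ : ∃ (i : I) (g : D.obj i ⟶ Y), c.π.app i ≫ g = φ ∧ g ≫ f = t.app i := by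
    rcases h with hdom | hlfp
    · exact Groth.Agent.LimDomLib.exists_π_app_comp_eq_of_locallyOfFiniteType D t f c hc
        (Groth.Agent.LimDomLib.isSchemeTheoreticallyDominant_π D c hc fun i j g => hdom i j g) φ ha'
    · exact Scheme.exists_π_app_comp_eq_of_locallyOfFinitePresentation D t f c hc φ ha'
  have hfg : Groth.Agent.MorLib.IdealFG.IsFG (J i) := fun U =>
    Groth.Agent.MorLib.IdealFG.fg_of_cover _ U fun x _ => by
      obtain ⟨V, hx, a, -, ha'⟩ := hJ i x
      exact ⟨V, hx, ha'.symm ▸ Submodule.fg_span_singleton a⟩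
  have hle : (J i).comap (c.π.app i) ≤ (IY.comap g).comap (c.π.app i) := by
    rw [← Scheme.IdealSheafData.comap_comp, hg]
    exact (hIX i).ge.trans hφ
  obtain ⟨j, u, hu⟩ := exists_comap_le (D := D) (c := c) hc (J i) (IY.comap g) hfg hle
  refine ⟨j, D.map u ≫ g, ?_, by rw [← Category.assoc, c.w, hg], ?_⟩
  · rw [ModPair.IsAmbient, show J j = (J i).comap (D.map u) from hmin j i u]
    refine hu.trans_eq ?_
    rw [← Scheme.IdealSheafData.comap_comp]
  · rw [Category.assoc, hg']
    exact (t.naturality u).trans (Category.comp_id _)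

end Descend

end Groth.Agent.ModDesc
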