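import Groth.Agent.ModDesc.Blowup
import Groth.Agent.ModDesc.Closures
import Groth.Agent.ModPairLib.Loc

/-!
# Morphisms into a finite type pair commute with limits in the localization at admissible blow-ups
-/

set_option autoImplicit false
set_option linter.style.haveILetI false
set_option backward.isDefEq.respectTransparency false
set_option backward.isDefEq.respectTransparency.types false
set_option maxHeartbeats 1000000

universe u

open CategoryTheory CategoryTheory.Limits AlgebraicGeometry TopologicalSpace ModPair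

namespace Groth.Agent.ModDesc

/-- The localization functor at admissible blow-ups. -/
abbrev loc : Pair.{u} ⥤ (Pair.admBlowup.{u}).Localization := (Pair.admBlowup.{u}).Q

/-- The diagram of total spaces. -/
abbrev totals {S : Pair.{u}} {I : Type u} [SmallCategory I] (D : I ⥤ Over S) : I ⥤ Scheme.{u} :=
  D ⋙ CategoryTheory.Over.forget S ⋙ Pair.forget

/-- The structure morphisms of the diagram of total spaces. -/
def totalsHom {S : Pair.{u}} {I : Type u} [SmallCategory I] (D : I ⥤ Over S) :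
    totals D ⟶ (Functor.const I).obj S.total where
  app i := (D.obj i).hom.hom
  naturality i j t := by
    show (D.map t).left.hom ≫ (D.obj j).hom.hom = (D.obj i).hom.hom ≫ 𝟙 _
    rw [Category.comp_id]
    exact congrArg Pair.Hom.hom (CategoryTheory.Over.w (D.map t))

/-- A limit of modulus pairs with affine minimal transitions is a limit of total spaces with the
pulled-back modulus. -/
theorem totals_limit {S : Pair.{u}} {I : Type u} [SmallCategory I] [IsCofiltered I] (D : I ⥤ Over S)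
    (c : Cone D) (hc : IsLimit c)
    [∀ (i j : I) (t : i ⟶ j), IsAffineHom (D.map t).left.hom]
    (hmin : ∀ (i j : I) (t : i ⟶ j),
      ModPair.IsMinimal (D.obj i).left.mod (D.obj j).left.mod (D.map t).left.hom) :
    Nonempty (IsLimit ((CategoryTheory.Over.forget S ⋙ Pair.forget).mapCone c)) ∧
      ∀ i, c.pt.left.mod = (D.obj i).left.mod.comap (c.π.app i).left.hom := by
  haveI : ∀ {i j : I} (t : i ⟶ j), IsAffineHom ((totals D).map t) := fun {i j} t =>
    (inferInstance : IsAffineHom (D.map t).left.hom)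
  haveI : HasLimit (totals D) := MorLib.LimExists.hasLimit (totals D)
  let K := limit.cone (totals D)
  have hK : IsLimit K := limit.isLimit _
  obtain ⟨i₀⟩ : Nonempty I := IsCofiltered.nonempty
  let J : ∀ i, ((totals D).obj i).IdealSheafData := fun i => (D.obj i).left.mod
  have hJmin : ∀ (i j : I) (t : i ⟶ j), ModPair.IsMinimal (J i) (J j) ((totals D).map t) := hmin
  have hKmod : ∀ i, (J i).comap (K.π.app i) = (J i₀).comap (K.π.app i₀) := by
    intro i
    obtain ⟨j, a, b, -⟩ := IsCofilteredOrEmpty.cone_objs i i₀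
    have e : ∀ (k : I) (t : j ⟶ k), (J k).comap (K.π.app k) = (J j).comap (K.π.app j) := fun k t => by
      rw [hJmin j k t, ← Scheme.IdealSheafData.comap_comp, K.w]
    rw [e i a, e i₀ b]
  let KP : Pair.{u} := ⟨K.pt, (J i₀).comap (K.π.app i₀),
    ModPairLib.isEffCartier_comap_π (totals D) K hK J (fun i => (D.obj i).left.isEffCartier) hJmin i₀⟩
  let p : ∀ i, KP ⟶ (D.obj i).left := fun i => ⟨K.π.app i, (hKmod i).ge⟩
  let sK : Cone D :=
    { pt := CategoryTheory.Over.mk (p i₀ ≫ (D.obj i₀).hom)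
      π :=
        { app := fun i => CategoryTheory.Over.homMk (p i) (Pair.Hom.ext (by
            obtain ⟨j, a, b, -⟩ := IsCofilteredOrEmpty.cone_objs i i₀
            have e : ∀ (k : I) (t : j ⟶ k), K.π.app k ≫ (totalsHom D).app k =
                K.π.app j ≫ (totalsHom D).app j := fun k t => by
              rw [← K.w t, Category.assoc, (totalsHom D).naturality t]
              exact congrArg _ (Category.comp_id _)
            exact (e i a).trans (e i₀ b).symm))
          naturality := fun i j t => by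
            refine (Category.id_comp _).trans ?_
            exact CategoryTheory.Over.OverMorphism.ext (Pair.Hom.ext (K.w t).symm) } }
  let l := hc.lift sK
  have hl : ∀ i, l.left.hom ≫ (c.π.app i).left.hom = K.π.app i := fun i =>
    congrArg (fun m => Pair.Hom.hom (CategoryTheory.CommaMorphism.left m)) (hc.fac sK i)
  let c' : Cone (totals D) := (CategoryTheory.Over.forget S ⋙ Pair.forget).mapCone c
  let k₀ : c.pt.left.total ⟶ K.pt := hK.lift c'
  have hk₀ : ∀ i, k₀ ≫ K.π.app i = (c.π.app i).left.hom := hK.fac c'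
  let k : c.pt ⟶ sK.pt := CategoryTheory.Over.homMk (⟨k₀, by
      show _ ≤ ((J i₀).comap (K.π.app i₀)).comap k₀
      rw [← Scheme.IdealSheafData.comap_comp, hk₀]
      exact (c.π.app i₀).left.cond⟩ : c.pt.left ⟶ KP) (Pair.Hom.ext (by
      show k₀ ≫ K.π.app i₀ ≫ (D.obj i₀).hom.hom = c.pt.hom.hom
      rw [← Category.assoc, hk₀]
      exact congrArg Pair.Hom.hom (CategoryTheory.Over.w (c.π.app i₀))))
  have h1 : k₀ ≫ l.left.hom = 𝟙 _ :=
    congrArg (fun m => Pair.Hom.hom (CategoryTheory.CommaMorphism.left m))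
      (hc.hom_ext (f := k ≫ l) (f' := 𝟙 _) fun i =>
        CategoryTheory.Over.OverMorphism.ext (Pair.Hom.ext (by
          show (k₀ ≫ l.left.hom) ≫ (c.π.app i).left.hom = 𝟙 _ ≫ _
          rw [Category.assoc, hl, hk₀, Category.id_comp])))
  have h2 : l.left.hom ≫ k₀ = 𝟙 _ := hK.hom_ext fun i => by
    rw [Category.assoc, hk₀, hl, Category.id_comp]
  refine ⟨⟨hK.ofIsoLimit (Cone.ext ⟨l.left.hom, k₀, h2, h1⟩ fun i => (hl i).symm)⟩, fun i => ?_⟩
  refine le_antisymm (c.π.app i).left.cond ?_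
  calc (D.obj i).left.mod.comap (c.π.app i).left.hom
      = KP.mod.comap k₀ := by
        show _ = ((J i₀).comap (K.π.app i₀)).comap k₀
        rw [← hKmod i, ← Scheme.IdealSheafData.comap_comp, hk₀]
    _ ≤ (c.pt.left.mod.comap l.left.hom).comap k₀ := Scheme.IdealSheafData.comap_mono _ l.left.cond
    _ = c.pt.left.mod := by
        rw [← Scheme.IdealSheafData.comap_comp, h1, Scheme.IdealSheafData.comap_id]

/-- Numerator of a morphism over the base, compatible with the base. -/
theorem exists_numerator_over {S X : Pair.{u}} (x : X ⟶ S) (Y : Over S)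
    (φ : loc.obj X ⟶ loc.obj Y.left) (hφ : φ ≫ loc.map Y.hom = loc.map x) :
    ∃ (X' : Pair.{u}) (r : X' ⟶ X) (f : X' ⟶ Y.left),
      Pair.admBlowup r ∧ loc.map r ≫ φ = loc.map f ∧ f ≫ Y.hom = r ≫ x := by
  haveI := ModPairLib.admBlowup_hasRightCalculusOfFractions.{u}
  obtain ⟨X', r, hr, f, hf⟩ := ModPairLib.exists_numerator loc.{u} Pair.admBlowup φ
  have e : loc.map (f ≫ Y.hom) = loc.map (r ≫ x) := by
    rw [Functor.map_comp, Functor.map_comp, ← hf, Category.assoc, hφ]
  obtain ⟨X'', s, hs, hs'⟩ := (Pair.admBlowup.map_eq_iff_precomp loc.{u} _ _).mp e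
  exact ⟨X'', s ≫ r, s ≫ f, Pair.admBlowup.comp_mem _ _ hs hr,
    by rw [Functor.map_comp, Category.assoc, hf, ← Functor.map_comp],
    by rw [Category.assoc, Category.assoc, hs']⟩

variable {S : Pair.{u}} [CompactSpace S.total] [QuasiSeparatedSpace S.total]
  {I : Type u} [SmallCategory I] [IsCofiltered I] (D : I ⥤ Over S) (c : Cone D) (hc : IsLimit c)
  [∀ (i j : I) (t : i ⟶ j), IsAffineHom (D.map t).left.hom]
  (hmin : ∀ (i j : I) (t : i ⟶ j),
    ModPair.IsMinimal (D.obj i).left.mod (D.obj j).left.mod (D.map t).left.hom)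
  [∀ i, CompactSpace (D.obj i).left.total] [∀ i, QuasiSeparatedSpace (D.obj i).left.total]
  (Y : Over S) [CompactSpace Y.left.total] [QuasiSeparatedSpace Y.left.total]
  [LocallyOfFiniteType Y.hom.hom]

include hc hmin in
/-- Surjectivity: every morphism from the limit in the localization comes from a stage. -/
theorem exists_factor
    (h : (∀ (i j : I) (t : i ⟶ j), IsSchemeTheoreticallyDominant (D.map t).left.hom) ∨
      LocallyOfFinitePresentation Y.hom.hom)
    (φ : loc.obj c.pt.left ⟶ loc.obj Y.left) (hφ : φ ≫ loc.map Y.hom = loc.map c.pt.hom) :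
    ∃ (i : I) (φi : loc.obj (D.obj i).left ⟶ loc.obj Y.left),
      φi ≫ loc.map Y.hom = loc.map (D.obj i).hom ∧ loc.map (c.π.app i).left ≫ φi = φ := by
  haveI := ModPairLib.admBlowup_hasRightCalculusOfFractions.{u}
  obtain ⟨⟨hlim⟩, hIX⟩ := totals_limit D c hc hmin
  let D' := totals D
  let c' : Cone D' := (CategoryTheory.Over.forget S ⋙ Pair.forget).mapCone c
  haveI : ∀ (i j : I) (t : i ⟶ j), IsAffineHom (D'.map t) := fun i j t =>
    (inferInstance : IsAffineHom (D.map t).left.hom)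
  haveI : ∀ i, CompactSpace (D'.obj i) := fun i => (inferInstance : CompactSpace (D.obj i).left.total)
  haveI : ∀ i, QuasiSeparatedSpace (D'.obj i) := fun i =>
    (inferInstance : QuasiSeparatedSpace (D.obj i).left.total)
  let J : ∀ i, (D'.obj i).IdealSheafData := fun i => (D.obj i).left.mod
  let IX : c'.pt.IdealSheafData := c.pt.left.mod
  have hXc : BlowUp.IsEffCartierIdeal IX := c.pt.left.isEffCartier
  obtain ⟨X', r, f, hr, hf, hfr⟩ := exists_numerator_over c.pt.hom Y φ hφ
  have hr1 : X'.mod = IX.comap r.hom := hr.1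
  obtain ⟨i, Yi, IYi, si, hIYi, hadm, e, he⟩ := exists_descend_admBlowup D' c' hlim J
    (fun i => (D.obj i).left.isEffCartier) hmin IX hIX r.hom
    (show BlowUp.IsEffCartierIdeal (IX.comap r.hom) from hr1 ▸ X'.isEffCartier)
    (show ModPair.IsAdmBlowup (IX.comap r.hom) IX r.hom from ⟨rfl, hr.2⟩)
  have H : Cls.Hyp D' J si IYi := ⟨fun i => (D.obj i).left.isEffCartier, hmin, hIYi, hadm⟩
  obtain ⟨m, k, hmk, hks, hms⟩ := Cls.exists_comparison H c' IX hIX hXc r.hom (hr1 ▸ X'.isEffCartier) e he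
  let C := Cls.cone c' IX H hIX hXc
  obtain ⟨hC⟩ := Cls.nonempty_isLimit H c' IX hIX hXc hlim
  let t : Cls.diag H ⟶ (Functor.const (Over i)).obj S.total :=
    { app := fun j => Cls.toBase D' J si IYi j ≫ (totalsHom D).app j.left
      naturality := fun a b g => by
        show (Cls.diag H).map g ≫ Cls.toBase D' J si IYi b ≫ (totalsHom D).app b.left = _ ≫ 𝟙 _
        rw [← Category.assoc, Cls.map_toBase H g, Category.assoc, Category.comp_id]
        erw [(totalsHom D).naturality g.left]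
        exact congrArg _ (Category.comp_id _) }
  have hkf : k ≫ r.hom ≫ c.pt.hom.hom = (k ≫ f.hom) ≫ Y.hom.hom := by
    rw [Category.assoc]
    exact congrArg (k ≫ ·) (congrArg Pair.Hom.hom hfr).symm
  have hkamb : ModPair.IsAmbient (Cls.ptMod si IYi c' IX) Y.left.mod (k ≫ f.hom) := by
    have e2 : X'.mod.comap k = Cls.ptMod si IYi c' IX := by
      rw [hr1, ← Scheme.IdealSheafData.comap_comp, hks]; rfl
    show _ ≤ Y.left.mod.comap _
    rw [← e2, Scheme.IdealSheafData.comap_comp]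
    exact Scheme.IdealSheafData.comap_mono _ f.cond
  obtain ⟨j, g, hg, hgπ, hgS⟩ := exists_descend_hom (Cls.diag H) C hC
    (fun a b u => Cls.isAffineHom_map H u) (fun a => Cls.compactSpace_obj H a)
    (fun a => Cls.quasiSeparatedSpace_obj H a) (fun a => Cls.mod D' J si IYi a) (Cls.mod_eff H)
    (Cls.mod_minimal H) (Cls.ptMod si IYi c' IX) (Cls.ptMod_eq H c' IX hIX hXc) Y.hom.hom Y.left.mod
    (h.imp (fun hd a b u => by
      haveI : IsSchemeTheoreticallyDominant (D'.map u.left) := hd _ _ u.left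
      exact Cls.isSchemeTheoreticallyDominant_map H u) id)
    t (k ≫ f.hom) hkamb (fun a => by
      show C.π.app a ≫ Cls.toBase D' J si IYi a ≫ (totalsHom D).app a.left = _
      rw [← Category.assoc, Cls.proj_toBase H c' IX hIX hXc a, Category.assoc]
      erw [← hkf, ← hks, Category.assoc]
      exact congrArg (fun z => k ≫ r.hom ≫ z)
        (congrArg Pair.Hom.hom (CategoryTheory.Over.w (c.π.app a.left))))
  let Z : Pair.{u} := ⟨(Cls.diag H).obj j, Cls.mod D' J si IYi j, Cls.mod_eff H j⟩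
  let B : Z ⟶ (D.obj j.left).left := ⟨Cls.toBase D' J si IYi j, (Cls.adm_toBase H j).1.le⟩
  let F : Z ⟶ Y.left := ⟨g, hg⟩
  have hB : Pair.admBlowup B := Cls.adm_toBase H j
  haveI : IsIso (loc.map B) := Localization.inverts loc.{u} Pair.admBlowup B hB
  refine ⟨j.left, inv (loc.map B) ≫ loc.map F, ?_, ?_⟩
  · rw [Category.assoc, IsIso.inv_comp_eq, ← Functor.map_comp, ← Functor.map_comp]
    exact congrArg loc.map (Pair.Hom.ext hgS)
  · refine ModPairLib.cancel_map loc.{u} Pair.admBlowup r hr ?_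
    let M : X' ⟶ Z := ⟨m ≫ C.π.app j, by
      show X'.mod ≤ (Cls.mod D' J si IYi j).comap (m ≫ C.π.app j)
      rw [Scheme.IdealSheafData.comap_comp, ← Cls.ptMod_eq H c' IX hIX hXc j, Cls.ptMod,
        ← Scheme.IdealSheafData.comap_comp, hms, hr1]⟩
    have eM : r ≫ (c.π.app j.left).left = M ≫ B := Pair.Hom.ext (by
      show r.hom ≫ c'.π.app j.left = (m ≫ C.π.app j) ≫ Cls.toBase D' J si IYi j
      rw [Category.assoc, Cls.proj_toBase H c' IX hIX hXc j, ← Category.assoc, hms])
    have eF : M ≫ F = f := Pair.Hom.ext (by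
      show (m ≫ C.π.app j) ≫ g = f.hom
      rw [Category.assoc, hgπ, ← Category.assoc, hmk]
      exact Category.id_comp _)
    rw [hf, ← Category.assoc, ← Functor.map_comp, eM, Functor.map_comp, Category.assoc,
      IsIso.hom_inv_id_assoc, ← Functor.map_comp, eF]

include hc hmin in
/-- Injectivity: morphisms agreeing on the limit in the localization agree at a stage. -/
theorem exists_equal (i : I) (φ ψ : loc.obj (D.obj i).left ⟶ loc.obj Y.left)
    (hφ : φ ≫ loc.map Y.hom = loc.map (D.obj i).hom) (hψ : ψ ≫ loc.map Y.hom = loc.map (D.obj i).hom)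
    (heq : loc.map (c.π.app i).left ≫ φ = loc.map (c.π.app i).left ≫ ψ) :
    ∃ (j : I) (t : j ⟶ i), loc.map (D.map t).left ≫ φ = loc.map (D.map t).left ≫ ψ := by
  haveI := ModPairLib.admBlowup_hasRightCalculusOfFractions.{u}
  obtain ⟨⟨hlim⟩, hIX⟩ := totals_limit D c hc hmin
  let D' := totals D
  let c' : Cone D' := (CategoryTheory.Over.forget S ⋙ Pair.forget).mapCone c
  haveI : ∀ (i j : I) (t : i ⟶ j), IsAffineHom (D'.map t) := fun i j t =>
    (inferInstance : IsAffineHom (D.map t).left.hom)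
  haveI : ∀ i, CompactSpace (D'.obj i) := fun i => (inferInstance : CompactSpace (D.obj i).left.total)
  haveI : ∀ i, QuasiSeparatedSpace (D'.obj i) := fun i =>
    (inferInstance : QuasiSeparatedSpace (D.obj i).left.total)
  let J : ∀ i, (D'.obj i).IdealSheafData := fun i => (D.obj i).left.mod
  let IX : c'.pt.IdealSheafData := c.pt.left.mod
  have hXc : BlowUp.IsEffCartierIdeal IX := c.pt.left.isEffCartier
  -- common numerators over the base
  obtain ⟨X₁, r₁, a₁, hr₁, ha₁, haS⟩ := exists_numerator_over (D.obj i).hom Y φ hφ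
  obtain ⟨X', r₂, b, hr₂, hb, hbS⟩ := exists_numerator_over (r₁ ≫ (D.obj i).hom) Y (loc.map r₁ ≫ ψ)
    (by rw [Category.assoc, hψ, ← Functor.map_comp])
  let r : X' ⟶ (D.obj i).left := r₂ ≫ r₁
  let a : X' ⟶ Y.left := r₂ ≫ a₁
  have hr : Pair.admBlowup r := Pair.admBlowup.comp_mem _ _ hr₂ hr₁
  have ha : loc.map r ≫ φ = loc.map a := by
    rw [Functor.map_comp, Category.assoc, ha₁, ← Functor.map_comp]
  have hb' : loc.map r ≫ ψ = loc.map b := by rw [Functor.map_comp, Category.assoc, hb]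
  have haS' : a ≫ Y.hom = r ≫ (D.obj i).hom := by simp only [a, r, Category.assoc, haS]
  have hbS' : b ≫ Y.hom = r ≫ (D.obj i).hom := by simp only [r, Category.assoc, hbS]
  let ri : X'.total ⟶ D'.obj i := r.hom
  have H : Cls.Hyp D' J ri X'.mod := ⟨fun i => (D.obj i).left.isEffCartier, hmin, X'.isEffCartier, hr⟩
  let C := Cls.cone c' IX H hIX hXc
  obtain ⟨hC⟩ := Cls.nonempty_isLimit H c' IX hIX hXc hlim
  let MP : Pair.{u} := ⟨Cls.pt ri X'.mod c' IX, Cls.ptMod ri X'.mod c' IX, Cls.ptMod_eff H c' IX hIX hXc⟩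
  let Bm : MP ⟶ c.pt.left := ⟨Cls.ptBase ri X'.mod c' IX, (Cls.adm_ptBase H c' IX hIX hXc).1.le⟩
  let G : MP ⟶ X' := ⟨Cls.ptStart ri X'.mod c' IX, Cls.ambient_ptStart H c' IX hIX hXc⟩
  have eG : G ≫ r = Bm ≫ (c.π.app i).left := Pair.Hom.ext (Cls.ptStart_comp c' IX)
  have eab : loc.map (G ≫ a) = loc.map (G ≫ b) := by
    have key : ∀ (χ : loc.obj (D.obj i).left ⟶ loc.obj Y.left) (q : X' ⟶ Y.left), loc.map r ≫ χ = loc.map q →
        loc.map (G ≫ q) = loc.map Bm ≫ loc.map (c.π.app i).left ≫ χ := by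
      intro χ q hq
      rw [Functor.map_comp, ← hq, ← Category.assoc, ← Category.assoc, ← Functor.map_comp, ← Functor.map_comp]
      exact congrArg (fun z => loc.map z ≫ χ) eG
    rw [key φ a ha, key ψ b hb', heq]
  obtain ⟨X'', s, hs, hsab⟩ := (Pair.admBlowup.map_eq_iff_precomp loc.{u} _ _).mp eab
  -- descend the blow-up
  have hs1 : X''.mod = MP.mod.comap s.hom := hs.1
  haveI : ∀ (a b : Over i) (u : a ⟶ b), IsAffineHom ((Cls.diag H).map u) := fun a b u =>
    Cls.isAffineHom_map H u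
  haveI : ∀ a, CompactSpace ((Cls.diag H).obj a) := fun a => Cls.compactSpace_obj H a
  haveI : ∀ a, QuasiSeparatedSpace ((Cls.diag H).obj a) := fun a => Cls.quasiSeparatedSpace_obj H a
  let J₁ : ∀ a : Over i, ((Cls.diag H).obj a).IdealSheafData := fun a => Cls.mod D' J ri X'.mod a
  have hIX₁ : ∀ a, MP.mod = (J₁ a).comap (C.π.app a) := Cls.ptMod_eq H c' IX hIX hXc
  obtain ⟨o, W, IW, sj, hIW, hadm, e, he⟩ := exists_descend_admBlowup (Cls.diag H) C hC J₁
    (Cls.mod_eff H) (Cls.mod_minimal H) MP.mod hIX₁ s.hom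
    (show BlowUp.IsEffCartierIdeal (MP.mod.comap s.hom) from hs1 ▸ X''.isEffCartier)
    (show ModPair.IsAdmBlowup (MP.mod.comap s.hom) MP.mod s.hom from ⟨rfl, hs.2⟩)
  have H₂ : Cls.Hyp (Cls.diag H) J₁ sj IW := ⟨Cls.mod_eff H, Cls.mod_minimal H, hIW, hadm⟩
  obtain ⟨-, k, -, hks, -⟩ := Cls.exists_comparison H₂ C MP.mod hIX₁ MP.isEffCartier s.hom
    (hs1 ▸ X''.isEffCartier) e he
  let C₂ := Cls.cone C MP.mod H₂ hIX₁ MP.isEffCartier
  obtain ⟨hC₂⟩ := Cls.nonempty_isLimit H₂ C MP.mod hIX₁ MP.isEffCartier hC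
  haveI : ∀ {a b : Over o} (u : a ⟶ b), IsAffineHom ((Cls.diag H₂).map u) := fun u =>
    Cls.isAffineHom_map H₂ u
  haveI : ∀ a, CompactSpace ((Cls.diag H₂).obj a) := fun a => Cls.compactSpace_obj H₂ a
  let t : Cls.diag H₂ ⟶ (Functor.const (Over o)).obj S.total :=
    { app := fun a => Cls.toBase (Cls.diag H) J₁ sj IW a ≫ Cls.toBase D' J ri X'.mod a.left ≫
        (totalsHom D).app a.left.left
      naturality := fun a b g => by
        show (Cls.diag H₂).map g ≫ Cls.toBase (Cls.diag H) J₁ sj IW b ≫ _ = _ ≫ 𝟙 _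
        rw [← Category.assoc, Cls.map_toBase H₂ g, Category.assoc, Category.comp_id]
        congr 1
        rw [← Category.assoc, Cls.map_toBase H g.left, Category.assoc]
        erw [(totalsHom D).naturality g.left.left]
        exact congrArg _ (Category.comp_id _) }
  let o' : Over o := Over.mk (𝟙 o)
  let P := Cls.toBase (Cls.diag H) J₁ sj IW o' ≫ Cls.toStart D' J ri X'.mod o
  have hP : ∀ (q : X' ⟶ Y.left), q ≫ Y.hom = r ≫ (D.obj i).hom →
      t.app o' = (P ≫ q.hom) ≫ Y.hom.hom := by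
    intro q hq
    have e1 : q.hom ≫ Y.hom.hom = r.hom ≫ (D.obj i).hom.hom := congrArg Pair.Hom.hom hq
    show Cls.toBase (Cls.diag H) J₁ sj IW o' ≫ Cls.toBase D' J ri X'.mod o ≫ _ =
      ((Cls.toBase (Cls.diag H) J₁ sj IW o' ≫ Cls.toStart D' J ri X'.mod o) ≫ q.hom) ≫ Y.hom.hom
    rw [Category.assoc, Category.assoc, e1, ← Category.assoc (Cls.toStart D' J ri X'.mod o),
      Cls.toStart_comp, Category.assoc]
    congr 2
    exact (((totalsHom D).naturality o.hom).trans (Category.comp_id _)).symm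
  have hπP : ∀ (q : X' ⟶ Y.left), C₂.π.app o' ≫ P ≫ q.hom = k ≫ (s ≫ G ≫ q).hom := by
    intro q
    show _ = k ≫ s.hom ≫ G.hom ≫ q.hom
    rw [← Category.assoc k, hks]
    show C₂.π.app o' ≫ (Cls.toBase (Cls.diag H) J₁ sj IW o' ≫ Cls.toStart D' J ri X'.mod o) ≫ q.hom = _
    rw [← Category.assoc, ← Category.assoc, Cls.proj_toBase H₂ C MP.mod hIX₁ MP.isEffCartier o',
      Category.assoc, Category.assoc]
    refine congrArg (Cls.ptBase sj IW C MP.mod ≫ ·) ?_
    show C.π.app o ≫ Cls.toStart D' J ri X'.mod o ≫ q.hom = G.hom ≫ q.hom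
    rw [← Category.assoc, Cls.proj_toStart H c' IX hIX hXc o]
  obtain ⟨l, u, hu⟩ := Scheme.exists_hom_comp_eq_comp_of_locallyOfFiniteType (Cls.diag H₂) t Y.hom.hom
    C₂ hC₂ (i := o') (P ≫ a.hom) (P ≫ b.hom) (hP a haS') (hP b hbS') (by rw [hπP, hπP, hsab])
  let Z₂ : Pair.{u} := ⟨(Cls.diag H₂).obj l, Cls.mod (Cls.diag H) J₁ sj IW l, Cls.mod_eff H₂ l⟩
  let Z₁ : Pair.{u} := ⟨(Cls.diag H).obj l.left, J₁ l.left, Cls.mod_eff H l.left⟩
  let B₂ : Z₂ ⟶ Z₁ := ⟨Cls.toBase (Cls.diag H) J₁ sj IW l, (Cls.adm_toBase H₂ l).1.le⟩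
  let B₁ : Z₁ ⟶ (D.obj l.left.left).left :=
    ⟨Cls.toBase D' J ri X'.mod l.left, (Cls.adm_toBase H l.left).1.le⟩
  let G₁ : Z₁ ⟶ X' := ⟨Cls.toStart D' J ri X'.mod l.left, Cls.ambient_toStart H l.left⟩
  have eQ : G₁ ≫ r = B₁ ≫ (D.map l.left.hom).left := Pair.Hom.ext (Cls.toStart_comp l.left)
  have hu' : B₂ ≫ G₁ ≫ a = B₂ ≫ G₁ ≫ b := by
    refine Pair.Hom.ext ?_
    show Cls.toBase (Cls.diag H) J₁ sj IW l ≫ Cls.toStart D' J ri X'.mod l.left ≫ a.hom =
      Cls.toBase (Cls.diag H) J₁ sj IW l ≫ Cls.toStart D' J ri X'.mod l.left ≫ b.hom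
    have e : (Cls.diag H₂).map u ≫ P =
        Cls.toBase (Cls.diag H) J₁ sj IW l ≫ Cls.toStart D' J ri X'.mod l.left := by
      show (Cls.diag H₂).map u ≫ Cls.toBase (Cls.diag H) J₁ sj IW o' ≫ Cls.toStart D' J ri X'.mod o = _
      rw [← Category.assoc, Cls.map_toBase H₂ u, Category.assoc]
      erw [Cls.map_toStart H u.left]
    rw [← Category.assoc, ← e, Category.assoc, hu, ← Category.assoc, e, Category.assoc]
  refine ⟨l.left.left, l.left.hom, ?_⟩
  refine ModPairLib.cancel_map loc.{u} Pair.admBlowup (B₂ ≫ B₁)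
    (Pair.admBlowup.comp_mem _ _ (Cls.adm_toBase H₂ l) (Cls.adm_toBase H l.left)) ?_
  rw [← Category.assoc, ← Category.assoc, ← Functor.map_comp, Category.assoc, ← eQ,
    ← Category.assoc B₂, Functor.map_comp, Category.assoc, Category.assoc, ha, hb',
    ← Functor.map_comp, ← Functor.map_comp, Category.assoc, Category.assoc, hu']

end Groth.Agent.ModDesc
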