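import Groth.Agent.ModDesc.LE
import Groth.Agent.ModPairLib.Limit

/-!
# An effective Cartier divisor on a schematically dominant limit comes from a stage
-/

set_option autoImplicit false
set_option linter.style.haveILetI false
set_option backward.isDefEq.respectTransparency false
set_option backward.isDefEq.respectTransparency.types false

universe u

open CategoryTheory CategoryTheory.Limits AlgebraicGeometry TopologicalSpace
open Groth.Agent.MorLib

namespace Groth.Agent.ModDesc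

variable {I : Type u} [SmallCategory I] [IsCofiltered I] {D : I ⥤ Scheme.{u}} {c : Cone D}

theorem exists_common {ι : Type u} [Finite ι] (i₀ : I) (i : ι → I) :
    ∃ (j : I) (_ : j ⟶ i₀), ∀ x, Nonempty (j ⟶ i x) := by
  classical
  haveI := Fintype.ofFinite ι
  obtain ⟨j, hj⟩ := IsCofiltered.inf_objs_exists (insert i₀ (Finset.univ.image i))
  exact ⟨j, (hj (Finset.mem_insert_self _ _)).some,
    fun x => hj (Finset.mem_insert_of_mem (Finset.mem_image_of_mem _ (Finset.mem_univ x)))⟩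

theorem map_appLE_apply {X Y : Scheme.{u}} (f : X ⟶ Y) {U : Y.Opens} {V V' : X.Opens} (e : V ≤ f ⁻¹ᵁ U)
    (i : V' ≤ V) (x : Γ(Y, U)) :
    (X.presheaf.map (homOfLE i).op).hom ((f.appLE U V e).hom x) = (f.appLE U V' (i.trans e)).hom x :=
  congrArg (fun φ => φ.hom x) (f.appLE_map e (homOfLE i).op)

theorem appLE_appLE_self {X Y Z : Scheme.{u}} {f : X ⟶ Y} {g : Y ⟶ Z} {h : X ⟶ Z} (w : f ≫ g = h)
    (U : Z.Opens) {V : X.Opens} (e₁ : V ≤ f ⁻¹ᵁ (g ⁻¹ᵁ U)) (e₂ : V ≤ h ⁻¹ᵁ U) (x : Γ(Z, U)) :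
    (f.appLE (g ⁻¹ᵁ U) V e₁).hom ((g.appLE U (g ⁻¹ᵁ U) le_rfl).hom x) = (h.appLE U V e₂).hom x := by
  subst w
  exact congrArg (fun φ => φ.hom x) (Scheme.Hom.appLE_comp_appLE f g U (g ⁻¹ᵁ U) V le_rfl e₁)

/-- An effective Cartier ideal on the limit is pulled back from a stage, where it stays effective
Cartier, if the projections are schematically dominant. -/
theorem exists_descend_effCartier (hc : IsLimit c) [∀ {i j} (f : i ⟶ j), IsAffineHom (D.map f)]
    [∀ i, CompactSpace (D.obj i)] [∀ i, QuasiSeparatedSpace (D.obj i)]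
    (hdom : ∀ i, IsSchemeTheoreticallyDominant (c.π.app i))
    (IX : c.pt.IdealSheafData) (hX : BlowUp.IsEffCartierIdeal IX) :
    ∃ (i : I) (J : (D.obj i).IdealSheafData), J.comap (c.π.app i) = IX ∧
      ∀ {j : I} (f : j ⟶ i), BlowUp.IsEffCartierIdeal (J.comap (D.map f)) := by
  classical
  haveI : ∀ i, IsAffineHom (c.π.app i) := fun i => isAffineHom_π_app D c hc i
  haveI : CompactSpace c.pt := Scheme.compactSpace_of_isLimit _ _ hc
  haveI := hdom
  obtain ⟨i₀⟩ : Nonempty I := IsCofiltered.nonempty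
  -- local generators coming from stages
  have loc : ∀ x : c.pt, ∃ (k : I) (V : (D.obj k).affineOpens) (b : Γ(D.obj k, V.1)),
      x ∈ c.π.app k ⁻¹ᵁ V.1 ∧ IX.ideal ⟨c.π.app k ⁻¹ᵁ V.1, V.2.preimage _⟩ =
        Ideal.span {((c.π.app k).appLE V.1 _ le_rfl).hom b} := by
    intro x
    obtain ⟨W, hxW, a, -, ha⟩ := hX x
    obtain ⟨_, ⟨_, ⟨k, V, hV, rfl⟩, rfl⟩, hxV, hVW⟩ :=
      (isBasis_preimage_isAffineOpen D c hc).exists_subset_of_mem_open hxW W.1.isOpen
    obtain ⟨j, f, t, e, ht⟩ := IdealFG.exists_appLE_π_eq hc hV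
      ((c.pt.presheaf.map (homOfLE (show c.π.app k ⁻¹ᵁ V ≤ W.1 from hVW)).op).hom a)
    refine ⟨j, ⟨D.map f ⁻¹ᵁ V, hV.preimage _⟩, t, e hxV, ?_⟩
    have hle : c.π.app j ⁻¹ᵁ (D.map f ⁻¹ᵁ V) = c.π.app k ⁻¹ᵁ V := by
      rw [← Scheme.Hom.comp_preimage, c.w]
    have hpre : c.π.app j ⁻¹ᵁ (D.map f ⁻¹ᵁ V) ≤ W.1 := hle.le.trans hVW
    rw [← IX.map_ideal (U := ⟨_, (hV.preimage (D.map f)).preimage (c.π.app j)⟩) (V := W) hpre, ha, Ideal.map_span,
      Set.image_singleton]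
    congr 2
    have h2 := congrArg (c.pt.presheaf.map (homOfLE hle.le).op).hom ht
    refine Eq.trans ?_ (h2.symm.trans (map_appLE_apply _ _ _ _))
    rw [← CommRingCat.comp_apply, ← Functor.map_comp]
    rfl
  choose k V b hxV hgen using loc
  obtain ⟨t, ht⟩ := isCompact_univ.elim_finite_subcover (fun x => ((c.π.app (k x) ⁻¹ᵁ (V x).1 : c.pt.Opens) : Set c.pt))
    (fun x => (c.π.app (k x) ⁻¹ᵁ (V x).1).isOpen) fun x _ => Set.mem_iUnion.mpr ⟨x, hxV x⟩
  obtain ⟨i₁, -, hi₁⟩ := exists_common i₀ (fun x : t => k x.1)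
  let q : ∀ x : t, i₁ ⟶ k x.1 := fun x => (hi₁ x).some
  let A : t → (D.obj i₁).affineOpens := fun x => ⟨D.map (q x) ⁻¹ᵁ (V x.1).1, (V x.1).2.preimage _⟩
  let a : ∀ x : t, Γ(D.obj i₁, (A x).1) := fun x => ((D.map (q x)).appLE (V x.1).1 (A x).1 le_rfl).hom (b x.1)
  have hAgen : ∀ x : t, IX.ideal ⟨c.π.app i₁ ⁻¹ᵁ (A x).1, (A x).2.preimage _⟩ =
      Ideal.span {((c.π.app i₁).appLE (A x).1 _ le_rfl).hom (a x)} := by
    intro x
    have hle : c.π.app i₁ ⁻¹ᵁ (A x).1 = c.π.app (k x.1) ⁻¹ᵁ (V x.1).1 := by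
      rw [← Scheme.Hom.comp_preimage, c.w]
    rw [← IX.map_ideal (U := ⟨_, (A x).2.preimage (c.π.app i₁)⟩)
      (V := ⟨_, (V x.1).2.preimage (c.π.app (k x.1))⟩) hle.le, hgen, Ideal.map_span, Set.image_singleton]
    congr 2
    exact (map_appLE_apply _ _ _ _).trans (appLE_appLE_self (c.w (q x)) _ _ _ _).symm
  have hcov : c.π.app i₁ ⁻¹ᵁ (⨆ x, (A x).1) = ⊤ := by
    refine top_le_iff.mp fun z _ => ?_
    obtain ⟨x, hx, hzx⟩ := Set.mem_iUnion₂.mp (ht (Set.mem_univ z))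
    refine Opens.mem_iSup.mpr ⟨⟨x, hx⟩, ?_⟩
    show D.map (q ⟨x, hx⟩) (c.π.app i₁ z) ∈ (V x).1
    rw [← Scheme.Hom.comp_apply, c.w]
    exact hzx
  -- a finite type ideal through the local generators
  have hK : ∀ x : t, ∃ K : (D.obj i₁).IdealSheafData,
      K ≤ IX.map (c.π.app i₁) ∧ IdealFG.IsFG K ∧ a x ∈ K.ideal (A x) := by
    intro x
    obtain ⟨K, hK, hfg, ha⟩ := IdealFG.exists_fg_le (IX.map (c.π.app i₁)) (A x) (Ideal.span {a x})
      (Submodule.fg_span_singleton _) (by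
        rw [Ideal.span_singleton_le_iff_mem, Scheme.IdealSheafData.ideal_map_of_isAffineHom, Ideal.mem_comap,
          hAgen, ← Scheme.Hom.app_eq_appLE]
        exact Ideal.mem_span_singleton_self _)
    exact ⟨K, hK, hfg, ha (Ideal.mem_span_singleton_self _)⟩
  choose K hKle hKfg hKa using hK
  let J := (Finset.univ : Finset t).sup K
  have hJfg : IdealFG.IsFG J :=
    Finset.sup_induction IdealFG.isFG_bot (fun _ h _ h' => IdealFG.isFG_sup h h') fun x _ => hKfg x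
  have hJle : J ≤ IX.map (c.π.app i₁) := Finset.sup_le fun x _ => hKle x
  have hJa : ∀ x, a x ∈ J.ideal (A x) := fun x => (Finset.le_sup (f := K) (Finset.mem_univ x)) (A x) (hKa x)
  have hJX : J.comap (c.π.app i₁) = IX := by
    refine le_antisymm (Scheme.IdealSheafData.le_map_iff_comap_le.mp hJle) ?_
    refine Scheme.IdealSheafData.le_of_iSup_eq_top
      (fun x : t => (⟨c.π.app i₁ ⁻¹ᵁ (A x).1, (A x).2.preimage _⟩ : c.pt.affineOpens))
      (by rw [← Scheme.Hom.preimage_iSup]; exact hcov) fun x => ?_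
    rw [hAgen, Ideal.span_singleton_le_iff_mem, ModPairLib.ideal_comap J (c.π.app i₁) (A x) _ le_rfl]
    exact Ideal.mem_map_of_mem _ (hJa x)
  -- finitely many conditions
  choose gs hgs using fun x : t => hJfg (A x)
  have hgen1 : ∀ (x : t) (z : Γ(D.obj i₁, (A x).1)), z ∈ J.ideal (A x) →
      ∃ (j : I) (f : j ⟶ i₁), tau (A x).1 f z ∈ (Ideal.span {a x}).map (tau (A x).1 f) := by
    intro x z hz
    refine exists_tau_mem _ hc (A x).2 _ ?_
    rw [Ideal.map_span, Set.image_singleton, ← hAgen x, ← hJX, ModPairLib.ideal_comap J (c.π.app i₁) (A x) _ le_rfl]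
    exact Ideal.mem_map_of_mem _ hz
  have key : ∀ s : Finset (Σ x : t, Γ(D.obj i₁, (A x).1)), (∀ p ∈ s, p.2 ∈ J.ideal (A p.1)) →
      ∃ (j : I) (f : j ⟶ i₁), ∀ (l : I) (h : l ⟶ j), ∀ p ∈ s,
        tau (A p.1).1 (h ≫ f) p.2 ∈ (Ideal.span {a p.1}).map (tau (A p.1).1 (h ≫ f)) := by
    intro s
    induction s using Finset.induction_on with
    | empty => exact fun _ => ⟨i₁, 𝟙 _, by simp⟩
    | insert p s _ ih =>
      intro hs
      obtain ⟨j, f, hf⟩ := ih fun q hq => hs q (Finset.mem_insert_of_mem hq)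
      obtain ⟨j', f', hf'⟩ := hgen1 p.1 p.2 (hs p (Finset.mem_insert_self _ _))
      obtain ⟨l, h, u, v, hu, hv⟩ := exists_refine f f'
      refine ⟨l, h, fun m g r hr => ?_⟩
      rcases Finset.mem_insert.1 hr with rfl | hr
      · have hw : (g ≫ v) ≫ f' = g ≫ h := by rw [Category.assoc, hv]
        rw [← rho_tau (A r.1).1 (g ≫ v) hw]
        exact rho_mem (A r.1).1 (g ≫ v) hw _ hf'
      · have e := hf m (g ≫ u) r hr
        rw [Category.assoc, hu] at e
        exact e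
  obtain ⟨j, f, hf⟩ := key ((Finset.univ : Finset t).sigma gs) fun p hp =>
    (hgs p.1).le (Ideal.subset_span (Finset.mem_sigma.1 hp).2)
  obtain ⟨i₂, g, hg⟩ := exists_map_eq_top D c hc (D.map f ⁻¹ᵁ (⨆ x, (A x).1))
    (by rw [← Scheme.Hom.comp_preimage, c.w]; exact hcov)
  refine ⟨i₂, J.comap (D.map (g ≫ f)), by rw [← Scheme.IdealSheafData.comap_comp, c.w, hJX], ?_⟩
  intro l h
  rw [← Scheme.IdealSheafData.comap_comp, ← D.map_comp]
  intro z
  have hz : D.map (h ≫ g ≫ f) z ∈ (⨆ x, (A x).1) := by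
    have : D.map h z ∈ D.map g ⁻¹ᵁ (D.map f ⁻¹ᵁ ⨆ x, (A x).1) := by rw [hg]; trivial
    rw [D.map_comp, D.map_comp, Scheme.Hom.comp_apply, Scheme.Hom.comp_apply]
    exact this
  obtain ⟨x, hx⟩ := Opens.mem_iSup.mp hz
  set φ := h ≫ g ≫ f with hφ
  let W : (D.obj l).affineOpens := ⟨pre (A x).1 φ, (A x).2.preimage _⟩
  have hW : (J.comap (D.map φ)).ideal W = Ideal.span {tau (A x).1 φ (a x)} := by
    rw [ModPairLib.ideal_comap J (D.map φ) (A x) W le_rfl]
    refine le_antisymm ?_ ?_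
    · rw [← hgs x, Ideal.map_span, Ideal.span_le]
      rintro _ ⟨y, hy, rfl⟩
      have e := hf l (h ≫ g) ⟨x, y⟩ (Finset.mem_sigma.2 ⟨Finset.mem_univ _, hy⟩)
      rw [Category.assoc, Ideal.map_span, Set.image_singleton] at e
      exact e
    · rw [Ideal.span_singleton_le_iff_mem]
      exact Ideal.mem_map_of_mem _ (hJa x)
  refine ⟨W, hx, tau (A x).1 φ (a x), ?_, hW⟩
  -- regular, as the sections inject into those of the limit
  have hinj : Function.Injective ((c.π.app l).app W.1).hom := (c.π.app l).app_injective W.1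
  have hWle : c.π.app l ⁻¹ᵁ W.1 = c.π.app i₁ ⁻¹ᵁ (A x).1 := by
    show c.π.app l ⁻¹ᵁ (D.map φ ⁻¹ᵁ (A x).1) = _
    rw [← Scheme.Hom.comp_preimage, c.w]
  refine mem_nonZeroDivisors_iff_right.mpr fun y hy => hinj ?_
  rw [map_zero]
  have hI : IX.ideal ⟨c.π.app l ⁻¹ᵁ W.1, W.2.preimage _⟩ =
      Ideal.span {((c.π.app l).app W.1).hom (tau (A x).1 φ (a x))} := by
    rw [← IX.map_ideal (U := ⟨_, W.2.preimage (c.π.app l)⟩)
      (V := ⟨_, (A x).2.preimage (c.π.app i₁)⟩) hWle.le, hAgen, Ideal.map_span, Set.image_singleton]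
    congr 2
    rw [tau, Scheme.Hom.app_eq_appLE]
    exact (map_appLE_apply _ _ _ _).trans (appLE_appLE_self (c.w φ) _ _ _ _).symm
  refine mem_nonZeroDivisors_iff_right.mp (ModPairLib.generator_mem_nonZeroDivisors hX hI) _ ?_
  exact (map_mul _ _ _).symm.trans ((congrArg _ hy).trans (map_zero _))

end Groth.Agent.ModDesc
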