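import Groth.Agent.PBlow.Main
import Groth.Agent.RegBlow6.Algebra

/-!
# Base change of the blowing up of a Koszul regular ideal
-/

set_option autoImplicit false
set_option linter.style.haveILetI false
set_option backward.isDefEq.respectTransparency false
set_option backward.isDefEq.respectTransparency.types false
set_option maxHeartbeats 1000000

universe u

open CategoryTheory CategoryTheory.Limits AlgebraicGeometry TopologicalSpace MvPolynomial
open Groth.Agent.WiebeLib Groth.Agent.RegBlow6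
open scoped TensorProduct

namespace Groth.Agent.ModDesc.KB

theorem mem_nonZeroDivisors_chart {A : Type u} [CommRing A] {n : ℕ} (a : Fin n → A) (k : Fin n) :
    algebraMap A (chartAlg a k) (a k) ∈ nonZeroDivisors (chartAlg a k) := by
  refine mem_nonZeroDivisors_iff_right.mpr fun z hz => Subtype.ext ?_
  have h := congrArg (chartAlg a k).val hz
  rw [map_mul, map_zero, AlgHom.commutes] at h
  exact (IsLocalization.Away.algebraMap_isUnit (a k)).mul_left_eq_zero.mp h

variable {A A' : Type u} [CommRing A] [CommRing A'] [Algebra A A'] {m : ℕ} (a : Fin (m + 1) → A)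
  (k : Fin (m + 1))

/-- In the base change of a chart of the blowing up of an exact sequence the generator of the
exceptional ideal stays regular, if the base change of the sequence is exact. -/
theorem one_tmul_mem_nonZeroDivisors (ha : IsExact a) (ha' : IsExact fun i => algebraMap A A' (a i)) :
    (1 : A') ⊗ₜ[A] algebraMap A (chartAlg a k) (a k) ∈ nonZeroDivisors (A' ⊗[A] chartAlg a k) := by
  let a' : Fin (m + 1) → A' := fun i => algebraMap A A' (a i)
  let C := chartAlg a k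
  let C' := chartAlg a' k
  let f₀ : MvPolynomial (Fin m) A →ₐ[A] C' :=
    ((PBlow.pres a' k).restrictScalars A).comp (IsScalarTower.toAlgHom A _ _ |>.comp
      (MvPolynomial.mapAlgHom (Algebra.ofId A A')))
  have hf₀ : ∀ p, f₀ p = PBlow.pres a' k (MvPolynomial.map (algebraMap A A') p) := fun p => rfl
  have hle : RingHom.ker (PBlow.pres a k).toRingHom ≤ RingHom.ker f₀.toRingHom := by
    rw [PBlow.ker_pres a k ha, Ideal.span_le]
    rintro _ ⟨i, rfl⟩
    show f₀ (PBlow.eqs a k i) = 0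
    rw [hf₀]
    have h : PBlow.pres a' k (PBlow.eqs a' k i) = 0 := by
      have := (PBlow.ker_pres a' k ha').ge (Ideal.subset_span ⟨i, rfl⟩)
      exact this
    rw [← h]
    simp [PBlow.eqs, a']
  let f : C →ₐ[A] C' := AlgHom.liftOfSurjective (PBlow.pres a k) (PBlow.pres_surjective a k) f₀ hle
  have hf : ∀ p, f (PBlow.pres a k p) = f₀ p := fun p =>
    AlgHom.congr_fun (AlgHom.liftOfSurjective_comp _ (PBlow.pres_surjective a k) f₀ hle) p
  let θ : A' ⊗[A] C →ₐ[A'] C' := AlgHom.liftEquiv A A' C C' f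
  have hθ : ∀ (r : A') (y : C), θ (r ⊗ₜ y) = r • f y := fun r y => rfl
  let ψ : MvPolynomial (Fin m) A' →ₐ[A'] A' ⊗[A] C :=
    aeval fun i => (1 : A') ⊗ₜ[A] PBlow.pres a k (X i)
  have hψA : ∀ p, ψ (MvPolynomial.map (algebraMap A A') p) = (1 : A') ⊗ₜ[A] PBlow.pres a k p := by
    intro p
    induction p using MvPolynomial.induction_on with
    | C r =>
      rw [map_C, aeval_C, Algebra.TensorProduct.algebraMap_apply, Algebra.algebraMap_self, RingHom.id_apply]
      erw [(PBlow.pres a k).commutes r]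
      rw [Algebra.algebraMap_eq_smul_one, Algebra.algebraMap_eq_smul_one, TensorProduct.smul_tmul]
    | add p q hp hq => simp only [map_add, hp, hq, TensorProduct.tmul_add]
    | mul_X p i hp =>
      rw [map_mul, map_mul, map_mul, hp, map_X, aeval_X, Algebra.TensorProduct.tmul_mul_tmul, one_mul]
  have hψ : Function.Surjective ψ := by
    intro z
    induction z using TensorProduct.induction_on with
    | zero => exact ⟨0, map_zero _⟩
    | add x y hx hy =>
      obtain ⟨p, rfl⟩ := hx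
      obtain ⟨q, rfl⟩ := hy
      exact ⟨p + q, map_add _ _ _⟩
    | tmul r y =>
      obtain ⟨p, rfl⟩ := PBlow.pres_surjective a k y
      refine ⟨r • MvPolynomial.map (algebraMap A A') p, ?_⟩
      rw [map_smul, hψA, TensorProduct.smul_tmul', smul_eq_mul, mul_one]
  have hθψ : ∀ p, θ (ψ p) = PBlow.pres a' k p := by
    intro p
    refine AlgHom.congr_fun (φ₁ := θ.comp ψ) (MvPolynomial.algHom_ext fun i => ?_) p
    show θ (ψ (X i)) = _
    rw [aeval_X, hθ, one_smul, hf, hf₀, map_X]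
  have hinj : ∀ z, θ z = 0 → z = 0 := by
    intro z hz
    obtain ⟨p, rfl⟩ := hψ z
    rw [hθψ] at hz
    have hp : p ∈ RingHom.ker (PBlow.pres a' k).toRingHom := hz
    rw [PBlow.ker_pres a' k ha'] at hp
    have hk : Ideal.span (Set.range (PBlow.eqs a' k)) ≤ RingHom.ker ψ.toRingHom := by
      rw [Ideal.span_le]
      rintro _ ⟨i, rfl⟩
      show ψ (PBlow.eqs a' k i) = 0
      have e : PBlow.eqs a' k i = MvPolynomial.map (algebraMap A A') (PBlow.eqs a k i) := by
        simp [PBlow.eqs, a']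
      have h : PBlow.pres a k (PBlow.eqs a k i) = 0 := (PBlow.ker_pres a k ha).ge (Ideal.subset_span ⟨i, rfl⟩)
      rw [e, hψA, h, TensorProduct.tmul_zero]
    exact hk hp
  refine mem_nonZeroDivisors_iff_right.mpr fun z hz => hinj z ?_
  refine mem_nonZeroDivisors_iff_right.mp (mem_nonZeroDivisors_chart a' k) _ ?_
  have e : θ ((1 : A') ⊗ₜ[A] algebraMap A C (a k)) = algebraMap A' C' (a' k) := by
    rw [hθ, one_smul, AlgHom.commutes, IsScalarTower.algebraMap_apply A A' C']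
  rw [← e, ← map_mul, hz, map_zero]

/-- A point outside the support has a neighbourhood on which the ideal is trivial. -/
theorem exists_ideal_eq_top {X : Scheme.{u}} (I : X.IdealSheafData) {z : X} (hz : z ∉ I.support) :
    ∃ W : X.affineOpens, z ∈ W.1 ∧ I.ideal W = ⊤ := by
  obtain ⟨_, ⟨W, hW, rfl⟩, hzW, hWsub⟩ := X.isBasis_affineOpens.exists_subset_of_mem_open
    (show z ∈ (I.support : Set X)ᶜ from hz) I.support.isClosed.isOpen_compl
  refine ⟨⟨W, hW⟩, hzW, ?_⟩
  rw [← Ideal.span_eq (I.ideal ⟨W, hW⟩), ← hW.self_le_iSup_basicOpen_iff]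
  intro y hy
  have h : y ∉ I.support := hWsub hy
  rw [Scheme.IdealSheafData.mem_support_iff_of_mem (U := ⟨W, hW⟩) hy, Scheme.mem_zeroLocus_iff] at h
  push Not at h
  obtain ⟨f, hf, hyf⟩ := h
  exact Opens.mem_iSup.mpr ⟨⟨f, hf⟩, hyf⟩

/-- Effective Cartier at a point, read off in an affine open immersion. -/
theorem exists_effCartier_of_openImmersion {X : Scheme.{u}} (I : X.IdealSheafData) {R : CommRingCat.{u}}
    (e : Spec R ⟶ X) [IsOpenImmersion e] {z : X} (hz : z ∈ Set.range e) (t : R) (ht : t ∈ nonZeroDivisors R)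
    (h : (I.comap e).ideal ⟨⊤, isAffineOpen_top _⟩ = Ideal.span {(Scheme.ΓSpecIso R).inv.hom t}) :
    ∃ U : X.affineOpens, z ∈ U.1 ∧ ∃ a : Γ(X, U.1), a ∈ nonZeroDivisors Γ(X, U.1) ∧ I.ideal U = Ideal.span {a} := by
  let U : X.affineOpens := ⟨e.opensRange, isAffineOpen_opensRange e⟩
  have hle : (⊤ : (Spec R).Opens) ≤ e ⁻¹ᵁ U.1 := fun w _ => ⟨w, rfl⟩
  have hbij : Function.Bijective ((e.appLE U.1 ⊤ hle) ≫ (Scheme.ΓSpecIso R).hom).hom :=
    (ConcreteCategory.bijective_of_isIso (Scheme.ΓSpecIso R).hom).comp (PBlow.appLE_bijective e hle le_rfl)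
  let φ : Γ(X, U.1) ≃+* R := RingEquiv.ofBijective _ hbij
  refine ⟨U, hz, φ.symm t, ModPairLib.mem_nonZeroDivisors_map φ.symm.toRingHom φ.symm.bijective ht, ?_⟩
  rw [ModPairLib.comap_ideal_of_opensRange e I U rfl] at h
  have h2 := congrArg (Ideal.map (Scheme.ΓSpecIso R).hom.hom) h
  rw [Ideal.map_map, Ideal.map_span, Set.image_singleton, ← CommRingCat.comp_apply, Iso.inv_hom_id,
    CommRingCat.id_apply, ← CommRingCat.hom_comp] at h2
  have h3 := congrArg (Ideal.map φ.symm.toRingHom) h2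
  rw [Ideal.map_span, Set.image_singleton, Ideal.map_map] at h3
  have e2 : φ.symm.toRingHom.comp ((e.appLE U.1 ⊤ hle) ≫ (Scheme.ΓSpecIso R).hom).hom = RingHom.id _ :=
    RingHom.ext fun x => φ.symm_apply_apply x
  exact ((Ideal.map_id _).symm.trans (congrArg (fun ψ => Ideal.map ψ (I.ideal U)) e2.symm)).trans h3

/-- The inverse image of an ideal sheaf on an affine scheme over an affine open. -/
theorem ideal_comap_spec {X : Scheme.{u}} (𝓘 : X.IdealSheafData) (U : X.affineOpens) {R : CommRingCat.{u}}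
    (ψ : Γ(X, U.1) →+* R) {P : Scheme.{u}} (ι : Spec R ⟶ P) (f : P ⟶ X)
    (h : ι ≫ f = Spec.map (CommRingCat.ofHom ψ) ≫ U.2.fromSpec) :
    ((𝓘.comap f).comap ι).ideal ⟨⊤, isAffineOpen_top _⟩ =
      ((𝓘.ideal U).map ψ).map (Scheme.ΓSpecIso R).inv.hom := by
  have hI : (𝓘.comap f).comap ι = (BlowUpLib.centre (𝓘.ideal U)).comap (Spec.map (CommRingCat.ofHom ψ)) := by
    rw [← Scheme.IdealSheafData.comap_comp, h, Scheme.IdealSheafData.comap_comp, BlowUpLib.comap_fromSpec]
  rw [hI, BlowUpLib.ideal_comap_centre, Ideal.map_map]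
  congr 1
  rw [BlowUpLib.strHom, PBlow.appLE_top]
  exact (congrArg CommRingCat.Hom.hom (Scheme.ΓSpecIso_inv_naturality (CommRingCat.ofHom ψ))).symm

/-- An affine open immersion on which the inverse image ideal is generated by a regular element. -/
theorem exists_effCartier_of_spec {X : Scheme.{u}} (𝓘 : X.IdealSheafData) (U : X.affineOpens) {R : CommRingCat.{u}}
    (ψ : Γ(X, U.1) →+* R) {P : Scheme.{u}} (ι : Spec R ⟶ P) [IsOpenImmersion ι] (f : P ⟶ X)
    (h : ι ≫ f = Spec.map (CommRingCat.ofHom ψ) ≫ U.2.fromSpec) {z : P} (hz : z ∈ Set.range ι) (t : R)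
    (ht : t ∈ nonZeroDivisors R) (e : (𝓘.ideal U).map ψ = Ideal.span {t}) :
    ∃ W : P.affineOpens, z ∈ W.1 ∧ ∃ a : Γ(P, W.1), a ∈ nonZeroDivisors Γ(P, W.1) ∧
      (𝓘.comap f).ideal W = Ideal.span {a} := by
  refine exists_effCartier_of_openImmersion _ ι hz t ht ?_
  rw [ideal_comap_spec 𝓘 U ψ ι f h, e, Ideal.map_span, Set.image_singleton]

/-- The exceptional ideal of the base change is effective Cartier at every point. -/
theorem exists_effCartier_pullback {X X' B : Scheme.{u}} (𝓘 : X.IdealSheafData) (g : X' ⟶ X)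
    (b : B ⟶ X) (hb : BlowUp.IsBlowUp b 𝓘) (U : X.affineOpens) {n : ℕ} (a : Fin n → Γ(X, U.1))
    (hU : 𝓘.ideal U = Ideal.span (Set.range a)) (ha : IsExact a)
    (hg : ∀ (V : X'.affineOpens) (e : V.1 ≤ g ⁻¹ᵁ U.1), IsExact fun i => (g.appLE U.1 V.1 e).hom (a i))
    (z : (pullback b g : Scheme.{u})) (hz : b (pullback.fst b g z) ∈ U.1) :
    ∃ W : (pullback b g : Scheme.{u}).affineOpens, z ∈ W.1 ∧ ∃ t, t ∈ nonZeroDivisors Γ(pullback b g, W.1) ∧
      (𝓘.comap (pullback.fst b g ≫ b)).ideal W = Ideal.span {t} := by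
  classical
  set y := pullback.fst b g z with hy
  -- a chart through the point
  obtain ⟨W₀, hyW₀, e₀, he₀, hW₀⟩ := hb.1 y
  obtain ⟨_, ⟨W, hWaff, rfl⟩, hyW, hWsub⟩ := B.isBasis_affineOpens.exists_subset_of_mem_open
    (show y ∈ (W₀.1 ⊓ b ⁻¹ᵁ U.1 : B.Opens) from ⟨hyW₀, hz⟩) (W₀.1 ⊓ b ⁻¹ᵁ U.1).isOpen
  have hWU : W ≤ b ⁻¹ᵁ U.1 := fun w hw => (hWsub hw).2
  have hWW₀ : W ≤ W₀.1 := fun w hw => (hWsub hw).1
  let Wa : B.affineOpens := ⟨W, hWaff⟩
  set e := (B.presheaf.map (homOfLE hWW₀).op).hom e₀ with he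
  have hWe : (𝓘.comap b).ideal Wa = Ideal.span {e} := by
    rw [← (𝓘.comap b).map_ideal (U := Wa) (V := W₀) hWW₀, hW₀, Ideal.map_span, Set.image_singleton]
    rfl
  have hWa : (𝓘.comap b).ideal Wa = Ideal.span (Set.range fun i => (b.appLE U.1 W hWU).hom (a i)) := by
    rw [ModPairLib.ideal_comap 𝓘 b U Wa hWU, hU, Ideal.map_span, ← Set.range_comp]
    rfl
  have hereg : e ∈ nonZeroDivisors Γ(B, W) := ModPairLib.generator_mem_nonZeroDivisors hb.1 hWe
  let p := (hWaff.primeIdealOf ⟨y, hyW⟩).asIdeal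
  obtain ⟨k, hk⟩ : ∃ k, (b.appLE U.1 W hWU).hom (a k) ∉ Ideal.span {e} * p := by
    by_contra hno
    push Not at hno
    have h1 : Ideal.span {e} ≤ Ideal.span {e} * p := by
      conv_lhs => rw [← hWe, hWa]
      exact Ideal.span_le.2 (by rintro _ ⟨i, rfl⟩; exact hno i)
    obtain ⟨x, hx, hxe⟩ := Ideal.mem_span_singleton_mul.mp (h1 (Ideal.mem_span_singleton_self e))
    have h3 : (x - 1) * e = 0 := by rw [sub_mul, one_mul, mul_comm, hxe, sub_self]
    have h4 := sub_eq_zero.mp (mem_nonZeroDivisors_iff_right.mp hereg _ h3)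
    exact (hWaff.primeIdealOf ⟨y, hyW⟩).2.ne_top ((Ideal.eq_top_iff_one _).mpr (h4 ▸ hx))
  obtain ⟨v, hv⟩ : ∃ v, v * e = (b.appLE U.1 W hWU).hom (a k) :=
    Ideal.mem_span_singleton'.mp (hWe ▸ hWa ▸ Ideal.subset_span ⟨k, rfl⟩)
  have hvp : v ∉ p := fun h => hk (Ideal.mem_span_singleton_mul.mpr ⟨v, h, by rw [mul_comm, hv]⟩)
  have hyv : y ∈ B.basicOpen v := by
    have h7 : hWaff.fromSpec (hWaff.primeIdealOf ⟨y, hyW⟩) ∈ B.basicOpen v := by
      show hWaff.primeIdealOf ⟨y, hyW⟩ ∈ hWaff.fromSpec ⁻¹ᵁ B.basicOpen v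
      rw [hWaff.fromSpec_preimage_basicOpen v]
      exact hvp
    rwa [hWaff.fromSpec_primeIdealOf ⟨y, hyW⟩] at h7
  have hvW : B.basicOpen v ≤ W := B.basicOpen_le v
  have hWk : (𝓘.comap b).ideal ⟨B.basicOpen v, hWaff.basicOpen v⟩ =
      Ideal.span {(b.appLE U.1 (B.basicOpen v) (hvW.trans hWU)).hom (a k)} := by
    rw [← (𝓘.comap b).map_ideal (U := ⟨B.basicOpen v, hWaff.basicOpen v⟩) (V := Wa) hvW, hWe,
      Ideal.map_span, Set.image_singleton]
    have e3 : (b.appLE U.1 (B.basicOpen v) (hvW.trans hWU)).hom (a k) =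
        (B.presheaf.map (homOfLE hvW).op).hom v * (B.presheaf.map (homOfLE hvW).op).hom e := by
      rw [← map_mul, hv]
      exact (congrArg (fun φ => φ.hom (a k)) (b.appLE_map hWU (homOfLE hvW).op)).symm
    rw [e3]
    exact (Ideal.span_singleton_mul_left_unit (RingedSpace.isUnit_res_basicOpen _ v) _).symm
  obtain ⟨m, rfl⟩ : ∃ m, n = m + 1 := Nat.exists_eq_add_of_le' (Nat.lt_of_le_of_lt (Nat.zero_le _) k.2)
  obtain ⟨c, hc, hcf, hcmem⟩ := PBlow.exists_blowUp_chart hb U.2 (RegBlow6.cI a) hU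
    ⟨a k, RegBlow6.mem_cI a k⟩
  haveI := hc
  have hyc : y ∈ c.opensRange := hcmem _ (hWaff.basicOpen v) (hvW.trans hWU) hWk y hyv
  -- the chart of the pullback
  obtain ⟨_, ⟨V, hV, rfl⟩, hxV, hVsub⟩ := X'.isBasis_affineOpens.exists_subset_of_mem_open
    (show pullback.snd b g z ∈ (g ⁻¹ᵁ U.1 : Set X') by
      show g (pullback.snd b g z) ∈ U.1
      rw [← Scheme.Hom.comp_apply, ← pullback.condition, Scheme.Hom.comp_apply]
      exact hz) (g ⁻¹ᵁ U.1).isOpen
  have hVU : V ≤ g ⁻¹ᵁ U.1 := hVsub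
  letI := (g.appLE U.1 V hVU).hom.toAlgebra
  let P := pullback (Spec.map (CommRingCat.ofHom (algebraMap Γ(X, U.1) (chartAlg a k))))
    (Spec.map (CommRingCat.ofHom (algebraMap Γ(X, U.1) Γ(X', V))))
  have hVg : Spec.map (CommRingCat.ofHom (algebraMap Γ(X, U.1) Γ(X', V))) ≫ U.2.fromSpec = hV.fromSpec ≫ g := by
    rw [← IsAffineOpen.SpecMap_appLE_fromSpec g U.2 hV hVU]
    rfl
  let q : P ⟶ pullback b g := pullback.map _ _ _ _ c hV.fromSpec U.2.fromSpec hcf.symm hVg
  haveI : IsOpenImmersion q := Scheme.pullback_map_isOpenImmersion _ _ _ _ _ _ _ hcf.symm hVg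
  let iso := (pullbackSymmetry _ _ ≪≫ pullbackSpecIso Γ(X, U.1) Γ(X', V) (chartAlg a k) : P ≅ _)
  let ι := iso.inv ≫ q
  haveI : IsOpenImmersion ι := inferInstanceAs (IsOpenImmersion (iso.inv ≫ q))
  have hzι : z ∈ Set.range ι := by
    have h1 : z ∈ Set.range q := by
      rw [Scheme.Pullback.range_map]
      refine ⟨hyc, ?_⟩
      show pullback.snd b g z ∈ Set.range hV.fromSpec
      rw [hV.range_fromSpec]
      exact hxV
    obtain ⟨w, hw⟩ := h1
    exact ⟨iso.hom w, by rw [← Scheme.Hom.comp_apply, Iso.hom_inv_id_assoc, hw]⟩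
  let R := CommRingCat.of (Γ(X', V) ⊗[Γ(X, U.1)] chartAlg a k)
  let ir : (chartAlg a k) →+* R :=
    Algebra.TensorProduct.includeRight.toRingHom
  have hfac : ι ≫ pullback.fst b g ≫ b =
      Spec.map (CommRingCat.ofHom (ir.comp (algebraMap Γ(X, U.1) (chartAlg a k)))) ≫ U.2.fromSpec := by
    show (iso.inv ≫ q) ≫ pullback.fst b g ≫ b = _
    rw [Category.assoc, show q ≫ pullback.fst b g ≫ b = pullback.fst _ _ ≫ c ≫ b from pullback.lift_fst_assoc _ _ _ _,
      hcf, Iso.trans_inv, Category.assoc, pullbackSymmetry_inv_comp_fst_assoc, pullbackSpecIso_inv_snd_assoc,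
      ← Category.assoc, ← Spec.map_comp]
    rfl
  have e : (𝓘.ideal U).map (ir.comp (algebraMap Γ(X, U.1) (chartAlg a k))) =
      Ideal.span {ir (algebraMap Γ(X, U.1) (chartAlg a k) (a k))} := by
    rw [hU, ← Ideal.map_map]
    show (RegBlow6.exc a k).map ir = _
    rw [RegBlow6.exc_eq, Ideal.map_span, Set.image_singleton]
  exact exists_effCartier_of_spec 𝓘 U _ ι (pullback.fst b g ≫ b) hfac hzι _
    (one_tmul_mem_nonZeroDivisors a k ha (hg ⟨V, hV⟩ hVU)) e

end Groth.Agent.ModDesc.KB
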