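import Groth.Agent.S5985
import Groth.Agent.S9432
import Mathlib.AlgebraicGeometry.Morphisms.Flat
import Mathlib.AlgebraicGeometry.Morphisms.UniversallyOpen

/-!
# Fppf coverings are dominated by finite flat coverings of étale neighbourhoods with trivial residue extension
-/

set_option autoImplicit false

universe u

open CategoryTheory CategoryTheory.Limits AlgebraicGeometry TopologicalSpace

namespace Groth.Agent.ModDesc.Refine

theorem isIso_residueFieldMap_comp {A B C : Scheme.{u}} (a : A ⟶ B) (b : B ⟶ C) (z : A)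
    (ha : IsIso (a.residueFieldMap z)) (hb : IsIso (b.residueFieldMap (a z))) :
    IsIso ((a ≫ b).residueFieldMap z) := by
  rw [Scheme.residueFieldMap_comp]
  haveI := ha
  haveI := hb
  exact IsIso.comp_isIso' hb ha

theorem refine_affine {W T : Scheme.{u}} [IsAffine W] [IsAffine T] (f : W ⟶ T) [Flat f]
    [LocallyOfFinitePresentation f] [Surjective f] (t : T) :
    ∃ (U U' : Scheme.{u}) (g : U ⟶ T) (p : U' ⟶ U) (h : U' ⟶ W),
      Etale g ∧ (∃ u : U, g u = t ∧ IsIso (g.residueFieldMap u)) ∧ (IsFinite p ∧ Flat p ∧ Surjective p) ∧ h ≫ f = p ≫ g := by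
  let φ := f.appTop
  have hφ : Spec.map φ = W.isoSpec.inv ≫ f ≫ T.isoSpec.hom := by
    rw [← Scheme.isoSpec_hom_naturality, Iso.inv_hom_id_assoc]
  haveI : Flat (Spec.map φ) := by rw [hφ]; infer_instance
  haveI : LocallyOfFinitePresentation (Spec.map φ) := by rw [hφ]; infer_instance
  haveI : Surjective (Spec.map φ) := by rw [hφ]; infer_instance
  algebraize [φ.hom]
  haveI : Module.Flat Γ(T, ⊤) Γ(W, ⊤) := (HasRingHomProperty.Spec_iff (P := @Flat)).1 ‹Flat (Spec.map φ)›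
  haveI : Algebra.FinitePresentation Γ(T, ⊤) Γ(W, ⊤) :=
    (HasRingHomProperty.Spec_iff (P := @LocallyOfFinitePresentation)).1 ‹LocallyOfFinitePresentation (Spec.map φ)›
  haveI : Module.FaithfullyFlat Γ(T, ⊤) Γ(W, ⊤) :=
    Module.FaithfullyFlat.of_comap_surjective (Spec.map φ).surjective
  obtain ⟨S', _, _, hqf, -, hff, hfp, ⟨χ⟩⟩ := Groth.Agent.S9432.result Γ(T, ⊤) Γ(W, ⊤)
  let ψ : Γ(T, ⊤) ⟶ CommRingCat.of S' := CommRingCat.ofHom (algebraMap Γ(T, ⊤) S')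
  haveI : Flat (Spec.map ψ) := (HasRingHomProperty.Spec_iff (P := @Flat)).2 (RingHom.flat_algebraMap_iff.2 inferInstance)
  haveI : LocallyOfFinitePresentation (Spec.map ψ) :=
    (HasRingHomProperty.Spec_iff (P := @LocallyOfFinitePresentation)).2 (RingHom.finitePresentation_algebraMap.2 hfp)
  haveI : Surjective (Spec.map ψ) := ⟨PrimeSpectrum.comap_surjective_of_faithfullyFlat⟩
  let f' : Spec (CommRingCat.of S') ⟶ T := Spec.map ψ ≫ T.isoSpec.inv
  have hfin : (f' ⁻¹' {t}).Finite := by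
    refine (Algebra.QuasiFinite.finite_comap_preimage_singleton (R := Γ(T, ⊤)) (S := S') (T.isoSpec.hom t)).subset ?_
    intro z hz
    show Spec.map ψ z = T.isoSpec.hom t
    rw [← (hz : f' z = t)]
    rw [← Scheme.Hom.comp_apply, Category.assoc, Iso.inv_hom_id, Category.comp_id]
  obtain ⟨U₀, g, u, hg, hgu, hres, V, -, -, hfinV, hV⟩ := Groth.Agent.S5985.result f' t hfin
  let p₀ := V.ι ≫ pullback.snd f' g
  haveI : IsFinite p₀ := hfinV
  haveI : Flat p₀ := inferInstanceAs (Flat (V.ι ≫ pullback.snd f' g))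
  haveI : LocallyOfFinitePresentation p₀ := inferInstanceAs (LocallyOfFinitePresentation (V.ι ≫ pullback.snd f' g))
  let E : U₀.Opens := ⟨Set.range p₀, (Scheme.Hom.isOpenMap p₀).isOpen_range⟩
  have huE : u ∈ E := by
    obtain ⟨z, hz⟩ := (pullback.snd f' g).surjective u
    exact ⟨⟨z, hV z hz⟩, by rw [Scheme.Hom.comp_apply]; exact hz⟩
  haveI := hg
  refine ⟨E.toScheme, (p₀ ⁻¹ᵁ E).toScheme, E.ι ≫ g, p₀ ∣_ E,
    (p₀ ⁻¹ᵁ E).ι ≫ V.ι ≫ pullback.fst f' g ≫ Spec.map (CommRingCat.ofHom χ.toRingHom) ≫ W.isoSpec.inv,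
    inferInstance, ⟨⟨u, huE⟩, by rw [Scheme.Hom.comp_apply]; exact hgu,
      isIso_residueFieldMap_comp E.ι g ⟨u, huE⟩ inferInstance hres⟩,
    ⟨inferInstance, IsZariskiLocalAtTarget.restrict (P := @Flat) inferInstance E, ⟨fun y => ?_⟩⟩, ?_⟩
  · obtain ⟨z, hz⟩ := y.2
    refine ⟨⟨z, show p₀ z ∈ E from ⟨z, rfl⟩⟩, E.ι.isOpenEmbedding.injective ?_⟩
    rw [← Scheme.Hom.comp_apply, morphismRestrict_ι, Scheme.Hom.comp_apply]
    exact hz
  · rw [morphismRestrict_ι_assoc]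
    simp only [Category.assoc, p₀, ← pullback.condition]
    congr 3
    have h1 : W.isoSpec.inv ≫ f = Spec.map φ ≫ T.isoSpec.inv := by
      rw [hφ, Category.assoc, Category.assoc, Iso.hom_inv_id, Category.comp_id]
    simp only [f', h1, ← Category.assoc, ← Spec.map_comp]
    congr 2
    ext a
    exact χ.commutes a

theorem exists_etale_finite_refinement {W T : Scheme.{u}} (f : W ⟶ T) [Flat f] [LocallyOfFinitePresentation f] (w : W) :
    ∃ (U U' : Scheme.{u}) (g : U ⟶ T) (p : U' ⟶ U) (h : U' ⟶ W),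
      Etale g ∧ (∃ u : U, g u = f w ∧ IsIso (g.residueFieldMap u)) ∧ (IsFinite p ∧ Flat p ∧ Surjective p) ∧ h ≫ f = p ≫ g := by
  obtain ⟨V₀, hV₀, hwV₀, -⟩ := Opens.isBasis_iff_nbhd.mp T.isBasis_affineOpens (Opens.mem_top (f w))
  let V : T.Opens := V₀
  change IsAffineOpen V at hV₀
  obtain ⟨W₀', hW₀', hwW₀, hle'⟩ := Opens.isBasis_iff_nbhd.mp W.isBasis_affineOpens (show w ∈ f ⁻¹ᵁ V from hwV₀)
  let W₀ : W.Opens := W₀'
  change IsAffineOpen W₀ at hW₀'
  have hle : W₀ ≤ f ⁻¹ᵁ V := hle'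
  let q := f.resLE V W₀ hle
  have hq : q = W.homOfLE hle ≫ f ∣_ V := rfl
  haveI : Flat q := by rw [hq]; infer_instance
  haveI : LocallyOfFinitePresentation q := by rw [hq]; infer_instance
  haveI : IsAffine V.toScheme := hV₀
  haveI : IsAffine W₀.toScheme := hW₀'
  let O : V.toScheme.Opens := ⟨Set.range q, (Scheme.Hom.isOpenMap q).isOpen_range⟩
  obtain ⟨D', hD', htD, hDO⟩ := Opens.isBasis_iff_nbhd.mp V.toScheme.isBasis_affineOpens
    (show (⟨f w, hwV₀⟩ : V.toScheme) ∈ O from ⟨⟨w, hwW₀⟩, V.ι.isOpenEmbedding.injective (by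
      rw [← Scheme.Hom.comp_apply, Scheme.Hom.resLE_comp_ι]; rfl)⟩)
  let D : V.toScheme.Opens := D'
  change IsAffineOpen D at hD'
  haveI : IsAffine D.toScheme := hD'
  haveI : IsAffine (q ⁻¹ᵁ D).toScheme := hD'.preimage q
  haveI : Surjective (q ∣_ D) := ⟨fun y => by
    obtain ⟨z, hz⟩ := hDO y.2
    refine ⟨⟨z, show q z ∈ D from hz ▸ y.2⟩, D.ι.isOpenEmbedding.injective ?_⟩
    rw [← Scheme.Hom.comp_apply, morphismRestrict_ι, Scheme.Hom.comp_apply]
    exact hz⟩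
  obtain ⟨U, U', g, p, h, hg, ⟨u, hu, hures⟩, hp, hcomm⟩ := refine_affine (q ∣_ D) ⟨⟨f w, hwV₀⟩, htD⟩
  haveI := hg
  refine ⟨U, U', g ≫ D.ι ≫ V.ι, p, h ≫ (q ⁻¹ᵁ D).ι ≫ W₀.ι, inferInstance,
    ⟨u, ?_, isIso_residueFieldMap_comp g (D.ι ≫ V.ι) u hures inferInstance⟩, hp, ?_⟩
  · rw [Scheme.Hom.comp_apply, hu]; rfl
  · rw [← Category.assoc p g, ← hcomm]
    simp only [Category.assoc, q, morphismRestrict_ι_assoc, Scheme.Hom.resLE_comp_ι]

end Groth.Agent.ModDesc.Refine
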