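import Groth.Agent.MorLib.IdealFG3
import Groth.Agent.H26.InterSymm
import Groth.Agent.ModPairLib.Dense
import Groth.Agent.S12442

/-!
# Properties holding on all small enough finitely presented neighbourhoods of a closed subscheme
-/

set_option autoImplicit false
set_option linter.style.haveILetI false
set_option backward.isDefEq.respectTransparency false
set_option backward.isDefEq.respectTransparency.types false

universe u

open CategoryTheory CategoryTheory.Limits AlgebraicGeometry TopologicalSpace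
open Groth.Agent.MorLib

namespace Groth.Agent.ModDesc

variable {X' : Scheme.{u}} [CompactSpace X'] [QuasiSeparatedSpace X']

/-- Finitely many sections of an ideal sheaf lie in a finitely generated subsheaf. -/
theorem exists_sub_forall_mem (P : X'.IdealSheafData) (t : Finset (Σ W : X'.affineOpens, Γ(X', W.1)))
    (ht : ∀ p ∈ t, p.2 ∈ P.ideal p.1) : ∃ K₀ : IdealFG.Sub P, ∀ p ∈ t, p.2 ∈ K₀.1.ideal p.1 := by
  classical
  induction t using Finset.induction_on with
  | empty => exact ⟨Classical.arbitrary _, by simp⟩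
  | insert p t _ ih =>
    obtain ⟨K₁, h₁⟩ := ih fun q hq => ht q (Finset.mem_insert_of_mem hq)
    obtain ⟨K₂, h₂⟩ := IdealFG.exists_sub_mem P p.1 (ht p (Finset.mem_insert_self _ _))
    obtain ⟨K₀, h01, h02⟩ := exists_ge_ge K₁ K₂
    refine ⟨K₀, fun q hq => ?_⟩
    rcases Finset.mem_insert.1 hq with rfl | hq
    · exact h02 _ h₂
    · exact h01 _ (h₁ q hq)

/-- Finite cover of a quasi-compact scheme by members of a family of affine opens. -/
theorem exists_finset_cover {Y : Scheme.{u}} [CompactSpace Y] (P : Y.affineOpens → Prop)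
    (h : ∀ x : Y, ∃ W : Y.affineOpens, x ∈ W.1 ∧ P W) :
    ∃ s : Finset Y.affineOpens, (∀ W ∈ s, P W) ∧ ⨆ W : s, W.1.1 = (⊤ : Y.Opens) := by
  classical
  choose W hx hP using h
  obtain ⟨F, hF⟩ := isCompact_univ.elim_finite_subcover (fun x : Y => ((W x).1 : Set Y))
    (fun x => (W x).1.2) fun x _ => Set.mem_iUnion.2 ⟨x, hx x⟩
  refine ⟨F.image W, fun V hV => ?_, top_le_iff.1 fun x _ => ?_⟩
  · obtain ⟨x, -, rfl⟩ := Finset.mem_image.1 hV
    exact hP x
  · obtain ⟨z, hz, hxz⟩ := Set.mem_iUnion₂.1 (hF (Set.mem_univ x))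
    exact Opens.mem_iSup.2 ⟨⟨W z, Finset.mem_image_of_mem W hz⟩, hxz⟩

/-- A finite type ideal inside `L ⊔ P` is inside `L ⊔ K` for a finitely generated `K ≤ P`. -/
theorem exists_sub_le_sup {A L P : X'.IdealSheafData} (hA : IdealFG.IsFG A) (h : A ≤ L ⊔ P) :
    ∃ K₀ : IdealFG.Sub P, A ≤ L ⊔ K₀.1 := by
  classical
  obtain ⟨s, -, hs⟩ := exists_finset_cover (Y := X') (fun _ => True) fun x => by
    obtain ⟨W, hW, hxW, -⟩ := exists_isAffineOpen_mem_and_subset (x := x) (U := ⊤) trivial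
    exact ⟨⟨W, hW⟩, hxW, trivial⟩
  choose gs hgs using fun W : X'.affineOpens => hA W
  have hsplit : ∀ p : (Σ W : X'.affineOpens, Γ(X', W.1)), p.2 ∈ A.ideal p.1 →
      ∃ l ∈ L.ideal p.1, ∃ q ∈ P.ideal p.1, l + q = p.2 := by
    intro p hp
    have h' := h p.1 hp
    rw [Scheme.IdealSheafData.ideal_sup, Pi.sup_apply] at h'
    exact Submodule.mem_sup.1 h'
  choose l hl q hq hlq using hsplit
  have hmem : ∀ p ∈ s.sigma gs, p.2 ∈ A.ideal p.1 := fun p hp =>
    (hgs p.1).le (Ideal.subset_span (Finset.mem_sigma.1 hp).2)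
  let t : Finset (Σ W : X'.affineOpens, Γ(X', W.1)) :=
    (s.sigma gs).attach.image fun p => ⟨p.1.1, q p.1 (hmem p.1 p.2)⟩
  have ht : ∀ r ∈ t, r.2 ∈ P.ideal r.1 := fun r hr => by
    obtain ⟨p, -, rfl⟩ := Finset.mem_image.1 hr
    exact hq p.1 (hmem p.1 p.2)
  obtain ⟨K₀, hK₀⟩ := exists_sub_forall_mem P t ht
  refine ⟨K₀, Scheme.IdealSheafData.le_of_iSup_eq_top (fun W : s => W.1) hs fun W => ?_⟩
  rw [← hgs W.1, Ideal.span_le]
  intro x hx
  have hp : (⟨W.1, x⟩ : Σ W : X'.affineOpens, Γ(X', W.1)) ∈ s.sigma gs := Finset.mem_sigma.2 ⟨W.2, hx⟩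
  rw [SetLike.mem_coe, Scheme.IdealSheafData.ideal_sup, Pi.sup_apply, Submodule.mem_sup]
  exact ⟨_, hl _ (hmem _ hp), _,
    hK₀ _ (Finset.mem_image.2 ⟨⟨⟨W.1, x⟩, hp⟩, Finset.mem_attach _ _, rfl⟩), hlq _ (hmem _ hp)⟩

variable {X : Scheme.{u}} (j : X ⟶ X') [IsClosedImmersion j]

/-- An ideal sheaf which is locally principal on a closed subscheme is locally principal on a finitely presented
neighbourhood. -/
theorem exists_sub_locPrincipal {A : X'.IdealSheafData} (hA : IdealFG.IsFG A)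
    (hAj : ModPairLib.IsLocPrincipal (A.comap j)) :
    ∃ K₀ : IdealFG.Sub j.ker, ∀ K : IdealFG.Sub j.ker, K₀ ≤ K →
      ModPairLib.IsLocPrincipal (A.comap K.1.subschemeι) := by
  classical
  let Pr : X'.affineOpens → Prop := fun W => ∃ (K₀ : IdealFG.Sub j.ker) (a : Γ(X', W.1)),
    A.ideal W ⊔ K₀.1.ideal W = Ideal.span {a} ⊔ K₀.1.ideal W
  have hloc : ∀ x : X', ∃ W : X'.affineOpens, x ∈ W.1 ∧ Pr W := by
    intro x
    by_cases hx : x ∈ Set.range j
    · obtain ⟨y, rfl⟩ := hx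
      obtain ⟨V, hyV, a₀, ha₀⟩ := hAj y
      obtain ⟨O, hO, hOV⟩ := (j.isClosedEmbedding.isInducing.isOpen_iff).1 V.1.2
      obtain ⟨W, hW, hxW, hWO⟩ := exists_isAffineOpen_mem_and_subset (x := j y) (U := ⟨O, hO⟩)
        (show y ∈ j ⁻¹' O from hOV.ge hyV)
      let V' : X.affineOpens := ⟨j ⁻¹ᵁ W, hW.preimage j⟩
      have hV' : V'.1 ≤ V.1 := fun z hz => hOV.le (hWO hz)
      have hsurj := j.app_surjective W hW
      have h1 : (A.ideal ⟨W, hW⟩).map (j.app W).hom = Ideal.span {X.presheaf.map (homOfLE hV').op a₀} := by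
        rw [Scheme.Hom.app_eq_appLE, ← ModPairLib.ideal_comap A j ⟨W, hW⟩ V' le_rfl,
          ← (A.comap j).map_ideal (U := V') (V := V) hV', ha₀, Ideal.map_span, Set.image_singleton]
        rfl
      obtain ⟨a, haA, ha⟩ := (Ideal.mem_map_iff_of_surjective _ hsurj).1
        (h1.ge (Ideal.mem_span_singleton_self _))
      choose gs hgs using fun W : X'.affineOpens => hA W
      have hr : ∀ g : Γ(X', W), g ∈ A.ideal ⟨W, hW⟩ → ∃ r : Γ(X', W), g - r * a ∈ j.ker.ideal ⟨W, hW⟩ := by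
        intro g hg
        have hg' := h1.le (Ideal.mem_map_of_mem _ hg)
        rw [← ha, Ideal.mem_span_singleton'] at hg'
        obtain ⟨r', hr'⟩ := hg'
        obtain ⟨r, rfl⟩ := hsurj r'
        refine ⟨r, ?_⟩
        rw [Scheme.Hom.ker_apply, RingHom.mem_ker, map_sub, map_mul]
        exact sub_eq_zero.2 hr'.symm
      choose r hr using hr
      have hmem : ∀ g ∈ gs ⟨W, hW⟩, g ∈ A.ideal ⟨W, hW⟩ := fun g hg =>
        (hgs ⟨W, hW⟩).le (Ideal.subset_span hg)
      let t : Finset (Σ W : X'.affineOpens, Γ(X', W.1)) :=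
        (gs ⟨W, hW⟩).attach.image fun g => ⟨⟨W, hW⟩, g.1 - r g.1 (hmem g.1 g.2) * a⟩
      have ht : ∀ p ∈ t, p.2 ∈ j.ker.ideal p.1 := fun p hp => by
        obtain ⟨g, -, rfl⟩ := Finset.mem_image.1 hp
        exact hr g.1 (hmem g.1 g.2)
      obtain ⟨K₀, hK₀⟩ := exists_sub_forall_mem j.ker t ht
      refine ⟨⟨W, hW⟩, hxW, K₀, a, le_antisymm (sup_le ?_ le_sup_right) (sup_le ?_ le_sup_right)⟩
      · rw [← hgs ⟨W, hW⟩, Ideal.span_le]
        intro g hg
        rw [SetLike.mem_coe, show g = r g (hmem g hg) * a + (g - r g (hmem g hg) * a) by ring]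
        exact Submodule.add_mem_sup (Ideal.mul_mem_left _ _ (Ideal.mem_span_singleton_self a))
          (hK₀ _ (Finset.mem_image.2 ⟨⟨g, hg⟩, Finset.mem_attach _ _, rfl⟩))
      · rw [Ideal.span_singleton_le_iff_mem]
        exact Submodule.mem_sup_left haA
    · obtain ⟨W, hW, hxW, -⟩ := exists_isAffineOpen_mem_and_subset (x := x) (U := ⊤) trivial
      have hxP : x ∉ j.ker.support := by
        intro h
        rw [← SetLike.mem_coe, Scheme.Hom.support_ker, j.isClosedEmbedding.isClosed_range.closure_eq] at h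
        exact hx h
      rw [Scheme.IdealSheafData.mem_support_iff_of_mem (U := ⟨W, hW⟩) hxW, Scheme.mem_zeroLocus_iff] at hxP
      simp only [not_forall, not_not] at hxP
      obtain ⟨p, hp, hxp⟩ := hxP
      let W' : X'.affineOpens := ⟨X'.basicOpen p, hW.basicOpen p⟩
      have h1 : (1 : Γ(X', W'.1)) ∈ j.ker.ideal W' := by
        have h2 : X'.presheaf.map (homOfLE (X'.basicOpen_le p)).op p ∈ j.ker.ideal W' := by
          rw [← j.ker.map_ideal (U := W') (V := ⟨W, hW⟩) (X'.basicOpen_le p)]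
          exact Ideal.mem_map_of_mem _ hp
        rw [Ideal.eq_top_of_isUnit_mem _ h2 (RingedSpace.isUnit_res_basicOpen _ p)]
        exact Submodule.mem_top
      obtain ⟨K₀, hK₀⟩ := IdealFG.exists_sub_mem j.ker W' h1
      refine ⟨W', hxp, K₀, 1, ?_⟩
      rw [(Ideal.eq_top_iff_one _).2 hK₀, sup_top_eq, sup_top_eq]
  obtain ⟨s, hs, hcov⟩ := exists_finset_cover Pr hloc
  choose Kf af hf using hs
  let T : Finset (IdealFG.Sub j.ker) := s.attach.image fun W => Kf W.1 W.2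
  obtain ⟨K₀, hK₀⟩ := Finset.exists_le T
  refine ⟨K₀, fun K hK z => ?_⟩
  obtain ⟨W, hzW⟩ := Opens.mem_iSup.1 (hcov.ge (trivial : K.1.subschemeι z ∈ (⊤ : X'.Opens)))
  refine ⟨⟨K.1.subschemeι ⁻¹ᵁ W.1.1, W.1.2.preimage _⟩, hzW, K.1.subschemeι.app W.1.1 (af W.1 W.2), ?_⟩
  have hle : (Kf W.1 W.2).1.ideal W.1 ≤ K.1.ideal W.1 :=
    (le_trans (hK₀ _ (Finset.mem_image.2 ⟨W, Finset.mem_attach _ _, rfl⟩)) hK) W.1
  have h := congrArg (· ⊔ K.1.ideal W.1) (hf W.1 W.2)
  simp only [sup_assoc, sup_eq_right.2 hle] at h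
  rw [ModPairLib.ideal_comap A K.1.subschemeι W.1 ⟨_, W.1.2.preimage _⟩ le_rfl, ← Scheme.Hom.app_eq_appLE,
    (Ideal.map_eq_iff_sup_ker_eq_of_surjective (I := A.ideal W.1) (J := Ideal.span {af W.1 W.2}) _
      (K.1.subschemeι.app_surjective _ W.1.2)).2
      (by rw [K.1.ker_subschemeι_app W.1]; exact h), Ideal.map_span, Set.image_singleton]

/-- The intersection of a closed subscheme with a quasi-compact open on which it is finitely presented is cut out by
a finitely generated subsheaf. -/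
theorem exists_sub_eq_on (O : X'.Opens) [CompactSpace (O : Scheme.{u})] [LocallyOfFinitePresentation (j ∣_ O)] :
    ∃ K₀ : IdealFG.Sub j.ker, ∀ K : IdealFG.Sub j.ker, K₀ ≤ K →
      (K.1.subschemeι ∣_ O).ker = (j ∣_ O).ker := by
  classical
  haveI : IsClosedImmersion (j ∣_ O) := IsZariskiLocalAtTarget.restrict (P := @IsClosedImmersion) ‹_› O
  obtain ⟨s, -, hs⟩ := exists_finset_cover (Y := (O : Scheme.{u})) (fun _ => True) fun x => by
    obtain ⟨W, hW, hxW, -⟩ := exists_isAffineOpen_mem_and_subset (x := x) (U := ⊤) trivial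
    exact ⟨⟨W, hW⟩, hxW, trivial⟩
  have hfg : ∀ V : (O : Scheme.{u}).affineOpens,
      (j.ker.ideal ⟨O.ι ''ᵁ V.1, V.2.image_of_isOpenImmersion _⟩).FG := by
    intro V
    rw [← Scheme.ker_morphismRestrict_ideal, Scheme.Hom.ker_apply]
    have hfp := (j ∣_ O).finitePresentation_appLE V.2 (V.2.preimage (j ∣_ O)) le_rfl
    rw [← Scheme.Hom.app_eq_appLE] at hfp
    letI := ((j ∣_ O).app V.1).hom.toAlgebra
    haveI : Algebra.FinitePresentation Γ((O : Scheme.{u}), V.1) Γ((j ⁻¹ᵁ O : Scheme.{u}), (j ∣_ O) ⁻¹ᵁ V.1) := hfp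
    exact Algebra.FinitePresentation.ker_fG_of_surjective (Algebra.ofId _ _)
      ((j ∣_ O).app_surjective V.1 V.2)
  choose gs hgs using hfg
  let t : Finset (Σ W : X'.affineOpens, Γ(X', W.1)) :=
    (s.sigma gs).image fun p => ⟨⟨O.ι ''ᵁ p.1.1, p.1.2.image_of_isOpenImmersion _⟩, p.2⟩
  have ht : ∀ q ∈ t, q.2 ∈ j.ker.ideal q.1 := fun q hq => by
    obtain ⟨p, hp, rfl⟩ := Finset.mem_image.1 hq
    exact (hgs p.1).le (Ideal.subset_span (Finset.mem_sigma.1 hp).2)
  obtain ⟨K₀, hK₀⟩ := exists_sub_forall_mem j.ker t ht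
  refine ⟨K₀, fun K hK => Scheme.IdealSheafData.ext_of_iSup_eq_top (fun W : s => W.1) hs fun W => ?_⟩
  rw [Scheme.ker_morphismRestrict_ideal, Scheme.ker_morphismRestrict_ideal, Scheme.IdealSheafData.ker_subschemeι]
  refine le_antisymm (K.2.1 _) ?_
  rw [← hgs W.1, Ideal.span_le]
  intro x hx
  exact hK _ (hK₀ _ (Finset.mem_image.2 ⟨⟨W.1, x⟩, Finset.mem_sigma.2 ⟨W.2, hx⟩, rfl⟩))

end Groth.Agent.ModDesc
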